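import Groth.Agent.GrpFieldLib.Neutral

/-!
# Components of homogeneous spaces over a field
-/

set_option autoImplicit false
set_option backward.isDefEq.respectTransparency false
set_option maxHeartbeats 400000

noncomputable section

universe u

open CategoryTheory CategoryTheory.Limits MonoidalCategory CartesianMonoidalCategory AlgebraicGeometry
open scoped MonObj
open Groth.Agent.HomogDense

namespace Groth.Agent.GrpField

variable {k : Type u} [Field k]

theorem exists_preimage_tensor {S : Scheme.{u}} {O O' A B : Over S} (f : O ⟶ A) (g : O' ⟶ B) (P : (A ⊗ B).left)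
    (h₁ : (fst A B).left P ∈ Set.range f.left) (h₂ : (snd A B).left P ∈ Set.range g.left) :
    P ∈ Set.range (f ⊗ₘ g).left := by
  obtain ⟨a, ha⟩ := h₁
  obtain ⟨b, hb⟩ := h₂
  obtain ⟨w, hw, -⟩ := Scheme.exists_preimage_of_isPullback (WeilRes.isPullback_whiskerRight B f) P a
    (show pullback.fst A.hom B.hom P = f.left a from ha.symm)
  have hb' : pullback.snd O.hom B.hom w = g.left b := by
    rw [← Over.whiskerRight_left_snd f, Scheme.Hom.comp_apply]
    exact (congrArg (pullback.snd A.hom B.hom) hw).trans hb.symm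
  obtain ⟨z, hz, -⟩ := Scheme.exists_preimage_of_isPullback (FinHom.isPullback_whiskerLeft O g) w b hb'
  refine ⟨z, ?_⟩
  rw [tensorHom_def', Over.comp_left, Scheme.Hom.comp_apply, hz, hw]

variable {G X : Over (Spec (CommRingCat.of k))} [GrpObj G] (a : AlgGrp.Action G X)

theorem isPullback_orb {T T' : Over (Spec (CommRingCat.of k))} (τ : T' ⟶ T) (x : T ⟶ X) :
    IsPullback (orb a (τ ≫ x)).left (G ◁ τ).left (X ◁ τ).left (orb a x).left := by
  have hG := (FinHom.isPullback_whiskerLeft G τ).flip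
  have hX := (FinHom.isPullback_whiskerLeft X τ).flip
  refine IsPullback.of_right ?_ ?_ hX
  · have e1 : (orb a (τ ≫ x)).left ≫ pullback.snd X.hom T'.hom = pullback.snd G.hom T'.hom :=
      congrArg CommaMorphism.left (lift_snd (lift (fst G T') (snd G T' ≫ τ ≫ x) ≫ a.act) (snd G T'))
    have e2 : (orb a x).left ≫ pullback.snd X.hom T.hom = pullback.snd G.hom T.hom :=
      congrArg CommaMorphism.left (lift_snd (lift (fst G T) (snd G T ≫ x) ≫ a.act) (snd G T))
    rw [e1, e2]
    exact hG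
  · rw [← Over.comp_left, ← Over.comp_left, orb_bcMap]

/-- The orbit of a point under the component of the unit contains the maximal point above it. -/
theorem isMax_orb (hΦ : Surjective (lift a.act (snd G X)).left) {T : Over (Spec (CommRingCat.of k))} (hT : AlgPt T)
    (x : T ⟶ X) (q : T.left) {θ : ↥(G ⊗ T).left} (hθ : IsMaxPt θ)
    (hθe : θ ⤳ (lift (1 : T ⟶ G) (𝟙 T)).left q) :
    IsMaxPt ((orb a x).left θ) ∧ (orb a x).left θ ⤳ (lift x (𝟙 T)).left q := by
  have hsp : (orb a x).left θ ⤳ (lift x (𝟙 T)).left q := by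
    have h := hθe.map (orb a x).left.continuous
    rwa [← Scheme.Hom.comp_apply, ← Over.comp_left, sec_orb, GrpShear.lift_one_act] at h
  refine ⟨?_, hsp⟩
  obtain ⟨ξ, hξ, hξs⟩ := exists_isMax_specializes ((lift x (𝟙 T)).left q)
  obtain ⟨w, hw⟩ := orbit_surjective a hΦ x ξ
  rw [← orb_eq] at hw
  obtain ⟨γ₀, hγ₀, hγw⟩ := exists_isMax_specializes w
  have hbγ : (orb a x).left γ₀ = ξ := hξ _ (hw ▸ hγw.map (orb a x).left.continuous)
  obtain ⟨T', τ, g, hT', hg⟩ := exists_geomPointOver γ₀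
  obtain ⟨q'⟩ := hT'.fieldPt.nonempty
  haveI := flat_bcMap (X := G) hT.fieldPt τ
  haveI := flat_bcMap (X := X) hT.fieldPt τ
  haveI := universallyOpen_bcMap (X := G) hT.fieldPt τ
  haveI := gi_bcMap (X := G) hT hT'.fieldPt τ
  let s' : T' ⟶ X ⊗ T' := lift (lift g (τ ≫ x) ≫ a.act) (𝟙 T')
  obtain ⟨z, hz, hzs⟩ := exists_isMax_specializes (s'.left q')
  have hιz : (X ◁ τ).left z = ξ := by
    refine hξ _ ?_
    have h := hzs.map (X ◁ τ).left.continuous
    have e : s' ≫ (X ◁ τ) = lift g τ ≫ orb a x :=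
      CartesianMonoidalCategory.hom_ext _ _ (by simp [s', comp_lift_assoc]) (by simp [s'])
    rwa [← Scheme.Hom.comp_apply, ← Over.comp_left, e, Over.comp_left, Scheme.Hom.comp_apply, hg, hbγ] at h
  obtain ⟨w', hw'₁, hw'₂⟩ := Scheme.exists_preimage_of_isPullback (isPullback_orb a τ x) z γ₀ (hιz.trans hbγ.symm)
  obtain ⟨θ', hθ', hθw⟩ := exists_isMax_specializes w'
  have hbθ' : (orb a (τ ≫ x)).left θ' = z := hz _ (hw'₁ ▸ hθw.map (orb a (τ ≫ x)).left.continuous)
  have hιθ' : (G ◁ τ).left θ' = γ₀ := hγ₀ _ (hw'₂ ▸ hθw.map (G ◁ τ).left.continuous)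
  have hF : IsIrreducible ((G ◁ τ).left ⁻¹' {γ₀}) :=
    (G ◁ τ).left.isIrreducible_preimage (G ◁ τ).left.isOpenMap isIrreducible_singleton
  have hθg : θ' ⤳ (lift g (𝟙 T')).left q' := specializes_of_isMax_mem hF hθ' hιθ' (by
    rw [Set.mem_preimage, bcMap_sec, hg]; rfl)
  -- translate back
  let ψ := transl (GrpShear.mulAction G) g⁻¹
  let χ := transl a g⁻¹
  have hψe : ψ.hom.left θ' ⤳ (lift (1 : T' ⟶ G) (𝟙 T')).left q' := by
    have h := hθg.map ψ.hom.left.continuous
    rw [← Scheme.Hom.comp_apply, ← Over.comp_left, sec_transl] at h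
    rw [show (lift (1 : T' ⟶ G) (𝟙 T')) = lift (lift g⁻¹ g ≫ (GrpShear.mulAction G).act) (𝟙 T') by
      rw [show lift g⁻¹ g ≫ (GrpShear.mulAction G).act = g⁻¹ * g from rfl, inv_mul_cancel]]
    exact h
  have hψmax : IsMaxPt (ψ.hom.left θ') := isMax_homeo' (Scheme.homeoOfIso ((Over.forget _).mapIso ψ)) hθ'
  have hχmax : IsMaxPt (χ.hom.left z) := isMax_homeo' (Scheme.homeoOfIso ((Over.forget _).mapIso χ)) hz
  have hθeq : (G ◁ τ).left (ψ.hom.left θ') = θ := by
    refine uniqAt_grp_tensor hT.fieldPt _ _ _ (isMax_map _ hψmax) hθ ?_ hθe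
    have h := hψe.map (G ◁ τ).left.continuous
    rw [bcMap_sec, show lift (1 : T' ⟶ G) τ = τ ≫ lift (1 : T ⟶ G) (𝟙 T) by simp [MonObj.comp_one], Over.comp_left,
      Scheme.Hom.comp_apply] at h
    haveI := hT.fieldPt.subsingleton
    rwa [Subsingleton.elim (τ.left q') q] at h
  rw [← hθeq, ← Scheme.Hom.comp_apply, ← Over.comp_left, orb_bcMap, Over.comp_left, Scheme.Hom.comp_apply]
  refine isMax_map _ ?_
  rw [← Scheme.Hom.comp_apply, ← Over.comp_left, orb_transl, Over.comp_left, Scheme.Hom.comp_apply, hbθ']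
  exact hχmax

/-- The union of the components meeting an open subset. -/
def compsMeeting (U : Set X.left) : Set X.left := {x | ∀ ξ, IsMaxPt ξ → ξ ⤳ x → ξ ∈ U}

theorem compsMeeting_eq_range (hΦ : Surjective (lift a.act (snd G X)).left) {Z : Over (Spec (CommRingCat.of k))}
    (jZ : Z ⟶ G) (hZ : Set.range jZ.left = Z0 G) {O : Over (Spec (CommRingCat.of k))} (jO : O ⟶ X)
    (hO : IsOpen (Set.range jO.left)) :
    compsMeeting (Set.range jO.left) = Set.range ((jZ ⊗ₘ jO) ≫ a.act).left := by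
  refine subset_antisymm (fun y hy => ?_) ?_
  · obtain ⟨T, x, hT, hx⟩ := exists_geomPointAt y
    obtain ⟨θ, hθ, hθ'⟩ := exists_top (G := G) hT.fieldPt
    obtain ⟨q⟩ := hT.fieldPt.nonempty
    obtain ⟨hm, hms⟩ := isMax_orb a hΦ hT x q hθ ((hθ' _).1 (fst_unit_sec (G := G) q ▸ unitPt_mem_Z0 G))
    haveI := flat_fst (X := X) T
    have hξU : (fst X T).left ((orb a x).left θ) ∈ Set.range jO.left := by
      refine hy _ (isMax_map _ hm) ?_
      have h := hms.map (fst X T).left.continuous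
      rwa [← Scheme.Hom.comp_apply (lift x (𝟙 T)).left, ← Over.comp_left, lift_fst, hx] at h
    obtain ⟨T', τ, g, hT', hg⟩ := exists_geomPointOver θ
    obtain ⟨q'⟩ := hT'.fieldPt.nonempty
    have hgZ : g.left q' ∈ Z0 G := by
      have h := (hθ' θ).2 specializes_rfl
      rwa [← hg q', ← Scheme.Hom.comp_apply, ← Over.comp_left, lift_fst] at h
    let x' : T' ⟶ X := lift g (τ ≫ x) ≫ a.act
    have hx' : x'.left q' ∈ Set.range jO.left := by
      rwa [← hg q', ← Scheme.Hom.comp_apply, ← Scheme.Hom.comp_apply, ← Over.comp_left, ← Over.comp_left,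
        show lift g τ ≫ orb a x ≫ fst X T = x' by simp [x', comp_lift_assoc]] at hξU
    obtain ⟨v, hv⟩ := exists_preimage_tensor jZ jO ((lift g⁻¹ x').left q')
      (by rw [← Scheme.Hom.comp_apply, ← Over.comp_left, lift_fst, hZ]; exact inv_mem_Z0 g q' hgZ)
      (by rw [← Scheme.Hom.comp_apply, ← Over.comp_left, lift_snd]; exact hx')
    refine ⟨v, ?_⟩
    rw [Over.comp_left, Scheme.Hom.comp_apply, hv, ← Scheme.Hom.comp_apply, ← Over.comp_left,
      ← GrpShear.lift_mul_act, inv_mul_cancel, GrpShear.lift_one_act, Over.comp_left, Scheme.Hom.comp_apply, hx]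
  · rintro _ ⟨v, rfl⟩ ξ hξ hξy
    obtain ⟨T, p, hT, hp⟩ := exists_geomPointAt v
    obtain ⟨θ, hθ, hθ'⟩ := exists_top (G := G) hT.fieldPt
    obtain ⟨q⟩ := hT.fieldPt.nonempty
    let g : T ⟶ G := p ≫ fst _ _ ≫ jZ
    let x : T ⟶ X := p ≫ snd _ _ ≫ jO
    obtain ⟨hm, hms⟩ := isMax_orb a hΦ hT x q hθ ((hθ' _).1 (fst_unit_sec (G := G) q ▸ unitPt_mem_Z0 G))
    haveI := flat_fst (X := X) T
    have hθg : θ ⤳ (lift g (𝟙 T)).left q := (hθ' _).1 (by
      rw [← Scheme.Hom.comp_apply, ← Over.comp_left, lift_fst, ← hZ]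
      exact ⟨(p ≫ fst _ _).left q, by rw [← Scheme.Hom.comp_apply, ← Over.comp_left, Category.assoc]⟩)
    have hy : (p ≫ (jZ ⊗ₘ jO) ≫ a.act).left q = ((jZ ⊗ₘ jO) ≫ a.act).left v := by
      rw [Over.comp_left, Scheme.Hom.comp_apply, hp]
    have h1 : (fst X T).left ((orb a x).left θ) ⤳ ((jZ ⊗ₘ jO) ≫ a.act).left v := by
      have h := (hθg.map (orb a x).left.continuous).map (fst X T).left.continuous
      rwa [← Scheme.Hom.comp_apply (lift g (𝟙 T)).left, ← Over.comp_left, sec_orb,
        ← Scheme.Hom.comp_apply (lift (lift g x ≫ a.act) (𝟙 T)).left, ← Over.comp_left, lift_fst, show lift g x ≫ a.act = p ≫ (jZ ⊗ₘ jO) ≫ a.act by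
          rw [← Category.assoc p]; congr 1; exact CartesianMonoidalCategory.hom_ext _ _ (by simp [g]) (by simp [x]),
        hy] at h
    rw [uniqAt a hΦ _ ξ _ hξ (isMax_map _ hm) hξy h1]
    have h2 := hms.map (fst X T).left.continuous
    rw [← Scheme.Hom.comp_apply (lift x (𝟙 T)).left, ← Over.comp_left, lift_fst] at h2
    refine h2.mem_open hO ⟨(p ≫ snd _ _).left q, ?_⟩
    rw [← Scheme.Hom.comp_apply, ← Over.comp_left, Category.assoc]

theorem isOpen_compsMeeting_and_compact (hΦ : Surjective (lift a.act (snd G X)).left) (U : X.left.Opens) :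
    IsOpen (compsMeeting (U : Set X.left)) ∧ (IsCompact (U : Set X.left) → IsCompact (compsMeeting (U : Set X.left))) := by
  obtain ⟨Z, incl, _, hZ⟩ := exists_subscheme_Z0 (G := G)
  let jZ : Over.mk (incl ≫ G.hom) ⟶ G := Over.homMk incl rfl
  let jO : Over.mk (U.ι ≫ X.hom) ⟶ X := Over.homMk U.ι rfl
  have hr : Set.range jO.left = U := Scheme.Opens.range_ι U
  rw [← hr, compsMeeting_eq_range a hΦ jZ hZ jO (hr ▸ U.2)]
  refine ⟨?_, fun hc => ?_⟩
  · haveI : IsOpenImmersion jO.left := inferInstanceAs (IsOpenImmersion U.ι)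
    haveI := FinHom.isOpenImmersion_whiskerLeft (Over.mk (incl ≫ G.hom)) jO
    haveI : UniversallyOpen ((jZ ▷ X) ≫ a.act).left :=
      GrpShear.act_left_prop a @UniversallyOpen jZ (universallyOpen_field _)
    have e : ((jZ ⊗ₘ jO) ≫ a.act).left = (Over.mk (incl ≫ G.hom) ◁ jO).left ≫ ((jZ ▷ X) ≫ a.act).left := by
      rw [← Over.comp_left, tensorHom_def', Category.assoc]
    haveI : UniversallyOpen ((jZ ⊗ₘ jO) ≫ a.act).left := by
      rw [e]; exact inferInstance
    exact ((jZ ⊗ₘ jO) ≫ a.act).left.isOpenMap.isOpen_range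
  · haveI : CompactSpace ↥Z := by
      have h := isCompact_Z0 (G := G)
      rw [← hZ, ← Set.image_univ, ← incl.isClosedEmbedding.isEmbedding.isInducing.isCompact_iff] at h
      exact ⟨h⟩
    haveI : CompactSpace ↥(U : Scheme.{u}) := isCompact_iff_compactSpace.1 (hr ▸ hc)
    haveI : CompactSpace ↥(Spec (CommRingCat.of k)) := inferInstanceAs (CompactSpace (PrimeSpectrum k))
    haveI : QuasiCompact (incl ≫ G.hom) := quasiCompact_iff_compactSpace _ |>.2 inferInstance
    haveI : CompactSpace ↥(Over.mk (incl ≫ G.hom) ⊗ Over.mk (U.ι ≫ X.hom)).left := by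
      haveI : QuasiCompact (pullback.snd (incl ≫ G.hom) (U.ι ≫ X.hom)) :=
        MorphismProperty.pullback_snd _ _ inferInstance
      exact QuasiCompact.compactSpace_of_compactSpace (pullback.snd (incl ≫ G.hom) (U.ι ≫ X.hom))
    exact isCompact_range ((jZ ⊗ₘ jO) ≫ a.act).left.continuous

theorem isClosed_of_stable [QuasiSeparatedSpace X.left] {V : X.left.Opens} (hc : IsCompact (V : Set X.left))
    (hs : StableUnderSpecialization (V : Set X.left)) : IsClosed (V : Set X.left) := by
  haveI : CompactSpace ↥(V : Scheme.{u}) := isCompact_iff_compactSpace.1 hc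
  have h : SpecializingMap V.ι := fun v y hy => by
    have hyV : y ∈ (V : Set X.left) := hs hy ((Scheme.Opens.range_ι V).le ⟨v, rfl⟩)
    obtain ⟨w, rfl⟩ := (Scheme.Opens.range_ι V).ge hyV
    exact ⟨w, V.ι.isOpenEmbedding.isEmbedding.isInducing.specializes_iff.1 hy, rfl⟩
  have := ((isClosedMap_iff_specializingMap V.ι).2 h).isClosed_range
  rwa [Scheme.Opens.range_ι] at this

theorem isClopen_compsMeeting (hΦ : Surjective (lift a.act (snd G X)).left) [QuasiSeparatedSpace X.left]
    (U : X.left.Opens) (hc : IsCompact (U : Set X.left)) : IsClopen (compsMeeting (U : Set X.left)) := by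
  obtain ⟨ho, hk⟩ := isOpen_compsMeeting_and_compact a hΦ U
  exact ⟨isClosed_of_stable (V := ⟨_, ho⟩) (hk hc) fun x y hxy hx ξ hξ hξy => by
    obtain ⟨η', hη', hη'x⟩ := exists_isMax_specializes x
    exact uniqAt a hΦ y η' ξ hη' hξ (hη'x.trans hxy) hξy ▸ hx η' hη' hη'x, ho⟩

/-- Connected components of a quasi-separated homogeneous space are irreducible. -/
theorem connectedComponent_eq_closure (hΦ : Surjective (lift a.act (snd G X)).left) [QuasiSeparatedSpace X.left]
    {x ξ : X.left} (hξ : IsMaxPt ξ) (hξx : ξ ⤳ x) : connectedComponent x = closure {ξ} := by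
  refine subset_antisymm (fun y hy => ?_)
    (isIrreducible_singleton.closure.isConnected.isPreconnected.subset_connectedComponent hξx.mem_closure)
  obtain ⟨η', hη', hη'y⟩ := exists_isMax_specializes y
  suffices h : η' ⤳ x by
    rw [uniqAt a hΦ x ξ η' hξ hη' hξx h]
    exact hη'y.mem_closure
  refine specializes_iff_forall_open.2 fun O hO hxO => ?_
  obtain ⟨U, hU, hxU, hUO⟩ := exists_isAffineOpen_mem_and_subset (X := X.left) (x := x) (U := ⟨O, hO⟩) hxO
  have hx : x ∈ compsMeeting (U : Set X.left) := fun ξ' _ hs => hs.mem_open U.2 hxU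
  exact hUO ((isClopen_compsMeeting a hΦ U hU.isCompact).connectedComponent_subset hx hy η' hη' hη'y)

theorem compactSpace_of_irreducible (hΦ : Surjective (lift a.act (snd G X)).left) [IrreducibleSpace X.left] :
    CompactSpace X.left := by
  obtain ⟨U, hU, hxU, -⟩ := exists_isAffineOpen_mem_and_subset (X := X.left) (x := Classical.arbitrary X.left)
    (U := ⊤) trivial
  refine ⟨?_⟩
  have h := (isOpen_compsMeeting_and_compact a hΦ U).2 hU.isCompact
  convert h using 1
  refine (Set.eq_univ_of_forall fun x ξ hξ _ => ?_).symm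
  exact (specializes_of_isMax_mem (IrreducibleSpace.isIrreducible_univ _) hξ trivial (Set.mem_univ _)).mem_open U.2 hxU

/-- The unit is a closed point, so a group scheme over a field is separated. -/
theorem isSeparated_grp : IsSeparated G.hom := by
  haveI : IsClosedImmersion (η[G] : 𝟙_ (Over (Spec (CommRingCat.of k))) ⟶ G).left := inferInstance
  let d : G ⊗ G ⟶ G := fst G G * (snd G G)⁻¹
  have hsq : IsPullback (lift (𝟙 G) (𝟙 G)) (toUnit G) d η[G] := by
    refine ⟨⟨by simp [d, MonObj.comp_mul, GrpObj.comp_inv, Hom.one_def]⟩, ⟨PullbackCone.IsLimit.mk _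
      (fun s => s.fst ≫ fst G G) (fun s => ?_) (fun s => Subsingleton.elim _ _) (fun s m h _ => ?_)⟩⟩
    · have h := s.condition
      simp only [d, MonObj.comp_mul, GrpObj.comp_inv] at h
      rw [show s.snd ≫ η[G] = (1 : s.pt ⟶ G) by rw [Hom.one_def]; exact congrArg (· ≫ η[G]) (Subsingleton.elim _ _),
        mul_inv_eq_one] at h
      exact CartesianMonoidalCategory.hom_ext _ _ (by simp) (by simp [h])
    · rw [← h]; simp
  have := MorphismProperty.of_isPullback (P := @IsClosedImmersion) ((hsq.map (Over.forget _)).flip)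
    (inferInstance : IsClosedImmersion (η[G] : 𝟙_ (Over (Spec (CommRingCat.of k))) ⟶ G).left)
  exact ⟨this⟩

theorem quasiSeparatedSpace_grp : QuasiSeparatedSpace G.left := by
  haveI := isSeparated_grp (G := G)
  exact quasiSeparatedSpace_of_quasiSeparated G.hom

theorem connectedComponent_grp {x ξ : G.left} (hξ : IsMaxPt ξ) (hξx : ξ ⤳ x) :
    connectedComponent x = closure {ξ} :=
  haveI := quasiSeparatedSpace_grp (G := G)
  connectedComponent_eq_closure (GrpShear.mulAction G) surjective_mulAction_shear hξ hξx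

theorem connectedComponent_unit : connectedComponent (unitPt G) = Z0 G := by
  obtain ⟨z, hz, hze, h⟩ := exists_Z0_gen G
  rw [connectedComponent_grp hz hze, h]

theorem Z0_eq_univ [ConnectedSpace G.left] : Z0 G = Set.univ := by
  rw [← connectedComponent_unit, PreconnectedSpace.connectedComponent_eq_univ]

end Groth.Agent.GrpField
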