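import Groth.Agent.GrpFieldLib.Homog
import Groth.Agent.WeilResLib.GrpGen
import Mathlib.AlgebraicGeometry.Morphisms.Integral
import Mathlib.AlgebraicGeometry.IdealSheaf.Subscheme

/-!
# The component of the unit of a group scheme over a field is geometrically irreducible and quasi-compact
-/

set_option autoImplicit false
set_option backward.isDefEq.respectTransparency false
set_option maxHeartbeats 400000

noncomputable section

universe u

open CategoryTheory CategoryTheory.Limits MonoidalCategory CartesianMonoidalCategory AlgebraicGeometry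
open scoped MonObj
open Groth.Agent.HomogDense

namespace Groth.Agent.GrpField

variable {k : Type u} [Field k] (G : Over (Spec (CommRingCat.of k))) [GrpObj G]

/-- The unit point. -/
def unitPt : G.left :=
  (η[G] : 𝟙_ (Over (Spec (CommRingCat.of k))) ⟶ G).left (IsLocalRing.closedPoint k : PrimeSpectrum k)

/-- The irreducible component of the unit. -/
def Z0 : Set G.left := {x | ∃ ξ, IsMaxPt ξ ∧ ξ ⤳ unitPt G ∧ ξ ⤳ x}

theorem exists_Z0_gen : ∃ z : G.left, IsMaxPt z ∧ z ⤳ unitPt G ∧ Z0 G = closure {z} := by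
  obtain ⟨z, hz, hze⟩ := exists_isMax_specializes (unitPt G)
  refine ⟨z, hz, hze, Set.ext fun x => ⟨fun ⟨ξ, hξ, hξe, hξx⟩ => ?_, fun hx => ⟨z, hz, hze, ?_⟩⟩⟩
  · rw [uniqAt_grp _ z ξ hz hξ hze hξe]
    exact hξx.mem_closure
  · exact specializes_iff_mem_closure.2 hx

theorem isClosed_Z0 : IsClosed (Z0 G) := by
  obtain ⟨z, -, -, h⟩ := exists_Z0_gen G
  rw [h]; exact isClosed_closure

theorem isIrreducible_Z0 : IsIrreducible (Z0 G) := by
  obtain ⟨z, -, -, h⟩ := exists_Z0_gen G
  rw [h]; exact isIrreducible_singleton.closure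

theorem unitPt_mem_Z0 : unitPt G ∈ Z0 G := by
  obtain ⟨z, hz, hze, h⟩ := exists_Z0_gen G
  rw [h]; exact hze.mem_closure

theorem Z0_mem_components : Z0 G ∈ irreducibleComponents G.left := by
  obtain ⟨z, hz, -, h⟩ := exists_Z0_gen G
  rw [h]; exact closure_mem_irreducibleComponents hz

variable {G}

theorem fst_unit_sec {T : Over (Spec (CommRingCat.of k))} (q : T.left) :
    (fst G T).left ((lift (1 : T ⟶ G) (𝟙 T)).left q) = unitPt G := by
  rw [← Scheme.Hom.comp_apply, ← Over.comp_left, lift_fst, Hom.one_def, Over.comp_left, Scheme.Hom.comp_apply]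
  exact congrArg _ (Subsingleton.elim (α := PrimeSpectrum k) _ _)

theorem eq_unit_sec {T : Over (Spec (CommRingCat.of k))} (hT : FieldPt T) (q : T.left) {w : ↥(G ⊗ T).left}
    (hw : (fst G T).left w = unitPt G) : w = (lift (1 : T ⟶ G) (𝟙 T)).left q := by
  haveI := hT.subsingleton
  obtain ⟨v, hv, -⟩ := Scheme.exists_preimage_of_isPullback
    (WeilRes.isPullback_whiskerRight T (η[G] : 𝟙_ (Over (Spec (CommRingCat.of k))) ⟶ G)) w
    (IsLocalRing.closedPoint k : PrimeSpectrum k) hw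
  have h : (η[G] : 𝟙_ (Over (Spec (CommRingCat.of k))) ⟶ G) ▷ T =
      snd (𝟙_ (Over (Spec (CommRingCat.of k)))) T ≫ lift (1 : T ⟶ G) (𝟙 T) :=
    CartesianMonoidalCategory.hom_ext _ _ (by
      rw [whiskerRight_fst, Category.assoc, lift_fst, Hom.one_def, ← Category.assoc]
      exact congrArg (· ≫ η[G]) (Subsingleton.elim (α := (𝟙_ (Over (Spec (CommRingCat.of k))) ⊗ T ⟶ 𝟙_ _)) _ _)) (by simp)
  rw [h, Over.comp_left, Scheme.Hom.comp_apply] at hv
  rw [← hv, Subsingleton.elim q ((snd (𝟙_ (Over (Spec (CommRingCat.of k)))) T).left v)]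

variable (k) in
theorem exists_algPt_isClosedMap :
    ∃ T : Over (Spec (CommRingCat.of k)), AlgPt T ∧
      ∀ H : Over (Spec (CommRingCat.of k)), IsClosedMap (fst H T).left := by
  refine ⟨Over.mk (Spec.map (CommRingCat.ofHom (algebraMap k (AlgebraicClosure k)))), algPt_mk _, fun H => ?_⟩
  haveI : IsIntegralHom (Spec.map (CommRingCat.ofHom (algebraMap k (AlgebraicClosure k)))) :=
    IsIntegralHom.SpecMap_iff.2 (algebraMap_isIntegral_iff.2 inferInstance)
  show IsClosedMap (pullback.fst H.hom (Spec.map (CommRingCat.ofHom (algebraMap k (AlgebraicClosure k)))))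
  exact (pullback.fst H.hom (Spec.map (CommRingCat.ofHom (algebraMap k (AlgebraicClosure k))))).isClosedMap

theorem isIrreducible_preimage_closure {T : Over (Spec (CommRingCat.of k))} (hT : AlgPt T)
    (hcl : IsClosedMap (fst G T).left) : IsIrreducible ((fst G T).left ⁻¹' Z0 G) := by
  haveI := flat_fst (X := G) T
  obtain ⟨z, hz, hze, hZ⟩ := exists_Z0_gen G
  obtain ⟨q⟩ := hT.fieldPt.nonempty
  let eT := (lift (1 : T ⟶ G) (𝟙 T)).left q
  obtain ⟨θ₀, hθ₀, hθ₀e⟩ := exists_isMax_specializes eT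
  suffices h : (fst G T).left ⁻¹' Z0 G = closure {θ₀} by rw [h]; exact isIrreducible_singleton.closure
  have hθz : (fst G T).left θ₀ = z := uniqAt_grp _ _ _ (isMax_map _ hθ₀) hz
    (fst_unit_sec (G := G) q ▸ hθ₀e.map (fst G T).left.continuous) hze
  refine subset_antisymm (fun w hw => ?_) (closure_minimal (Set.singleton_subset_iff.2 ?_) ?_)
  · obtain ⟨θ, hθ, hθw⟩ := exists_isMax_specializes w
    obtain ⟨ξ, hξ, hξe, hξx⟩ := hw
    have h1 : (fst G T).left θ = ξ :=
      uniqAt_grp _ _ _ (isMax_map _ hθ) hξ (hθw.map (fst G T).left.continuous) hξx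
    have h2 : unitPt G ∈ (fst G T).left '' closure {θ} := by
      have h3 : closure {(fst G T).left θ} ⊆ (fst G T).left '' closure {θ} :=
        closure_minimal (Set.singleton_subset_iff.2 ⟨θ, subset_closure rfl, rfl⟩) (hcl _ isClosed_closure)
      exact h3 (h1 ▸ hξe.mem_closure)
    obtain ⟨v, hv, hve⟩ := h2
    rw [eq_unit_sec hT.fieldPt q hve] at hv
    rw [uniqAt_grp_tensor hT.fieldPt eT θ θ₀ hθ hθ₀ (specializes_iff_mem_closure.2 hv) hθ₀e] at hθw
    exact hθw.mem_closure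
  · exact ⟨z, hz, hze, by rw [hθz]⟩
  · exact (isClosed_Z0 G).preimage (fst G T).left.continuous

theorem gi_of_irreducible_algClosed {L : Type u} [Field L] [IsAlgClosed L] {Y : Scheme.{u}} [IrreducibleSpace Y]
    (f : Y ⟶ Spec (CommRingCat.of L)) : GeometricallyIrreducible f := by
  refine ⟨geometrically_iff_of_commRing_of_isClosedUnderIsomorphisms.mpr fun F _ _ => ?_⟩
  haveI := SweepSix.GeomConn.gi_pr f F
  exact GeometricallyIrreducible.irreducibleSpace (f := ConnBC.pr f F) (ConnBC.pr f F).isOpenMap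

/-- A closed subscheme supported on the component of the unit is geometrically irreducible. -/
theorem geometricallyIrreducible_of_range {Z : Scheme.{u}} (incl : Z ⟶ G.left) [IsClosedImmersion incl]
    (h : Set.range incl = Z0 G) : GeometricallyIrreducible (incl ≫ G.hom) := by
  let T : Over (Spec (CommRingCat.of k)) :=
    Over.mk (Spec.map (CommRingCat.ofHom (algebraMap k (AlgebraicClosure k))))
  let t := Spec.map (CommRingCat.ofHom (algebraMap k (AlgebraicClosure k)))
  haveI : IsIntegralHom t := IsIntegralHom.SpecMap_iff.2 (algebraMap_isIntegral_iff.2 inferInstance)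
  have hirr := isIrreducible_preimage_closure (G := G) (T := T) (algPt_mk _)
    (show IsClosedMap (pullback.fst G.hom t) from (pullback.fst G.hom t).isClosedMap)
  let n := pullback.snd incl (pullback.fst G.hom t)
  haveI : IsClosedImmersion n := MorphismProperty.pullback_snd _ _ inferInstance
  have hr : Set.range n = (fst G T).left ⁻¹' Z0 G := by
    simp only [n, Scheme.Pullback.range_snd, h]
    rfl
  haveI : IrreducibleSpace ↥(pullback (incl ≫ G.hom) t) := by
    haveI : IrreducibleSpace ↥(Set.range n) := Subtype.irreducibleSpace (hr ▸ hirr)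
    have h2 := n.isClosedEmbedding.isEmbedding.toHomeomorph.irreducibleSpace_iff.2 this
    exact (Scheme.homeoOfIso (pullbackRightPullbackFstIso G.hom t incl)).irreducibleSpace_iff.1 h2
  haveI : GeometricallyIrreducible (pullback.snd (incl ≫ G.hom) t) := gi_of_irreducible_algClosed _
  exact SweepSix.GeomConn.gi_of_bc (incl ≫ G.hom) (AlgebraicClosure k)

theorem exists_subscheme_Z0 : ∃ (Z : Scheme.{u}) (incl : Z ⟶ G.left), IsClosedImmersion incl ∧
    Set.range incl = Z0 G := by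
  let I := Scheme.IdealSheafData.vanishingIdeal ⟨Z0 G, isClosed_Z0 G⟩
  refine ⟨I.subscheme, I.subschemeι, inferInstance, ?_⟩
  rw [Scheme.IdealSheafData.range_subschemeι, Scheme.IdealSheafData.coe_support_vanishingIdeal]
  rfl

/-- The preimage of the component of the unit in a field extension is irreducible. -/
theorem exists_top {T : Over (Spec (CommRingCat.of k))} (hT : FieldPt T) :
    ∃ θ : ↥(G ⊗ T).left, IsMaxPt θ ∧ ∀ w, ((fst G T).left w ∈ Z0 G ↔ θ ⤳ w) := by
  obtain ⟨Z, incl, _, hr⟩ := exists_subscheme_Z0 (G := G)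
  haveI := geometricallyIrreducible_of_range incl hr
  obtain ⟨K, _, ⟨e⟩⟩ := hT
  haveI : IrreducibleSpace ↥(pullback (incl ≫ G.hom) (e.inv ≫ T.hom)) :=
    GeometricallyIrreducible.geometrically_irreducibleSpace (e.inv ≫ T.hom) _ _ (.of_hasPullback _ _)
  let m : pullback (incl ≫ G.hom) (e.inv ≫ T.hom) ⟶ (G ⊗ T).left :=
    pullback.map _ _ G.hom T.hom incl e.inv (𝟙 _) (by simp) (by simp)
  have hm : Set.range m = (fst G T).left ⁻¹' Z0 G := by
    refine (Scheme.Pullback.range_map _ _ G.hom T.hom incl e.inv (𝟙 _) _ _).trans ?_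
    rw [hr]
    exact Set.ext fun v => ⟨fun hv => hv.1, fun hv => ⟨hv, e.inv.surjective _⟩⟩
  have hirr : IsIrreducible ((fst G T).left ⁻¹' Z0 G) := by
    rw [← hm, ← Set.image_univ]
    exact (IrreducibleSpace.isIrreducible_univ _).image _ m.continuous.continuousOn
  have hg := hirr.isGenericPoint_genericPoint ((isClosed_Z0 G).preimage (fst G T).left.continuous)
  obtain ⟨θ, hθ, hθg⟩ := exists_isMax_specializes hirr.genericPoint
  haveI := flat_fst (X := G) T
  obtain ⟨z, hz, hze, hZ⟩ := exists_Z0_gen G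
  have hgm : (fst G T).left hirr.genericPoint ∈ Z0 G := hg.mem
  have hθm : (fst G T).left θ ∈ Z0 G := by
    have h1 : z ⤳ (fst G T).left hirr.genericPoint := specializes_iff_mem_closure.2 (hZ ▸ hgm)
    rw [uniqAt_grp _ _ _ (isMax_map _ hθ) hz (hθg.map (fst G T).left.continuous) h1]
    exact hZ ▸ subset_closure rfl
  have heq : hirr.genericPoint = θ := ((hg.specializes hθm).antisymm hθg).eq
  refine ⟨θ, hθ, fun w => ⟨fun hw => heq ▸ hg.specializes hw, fun hw => ?_⟩⟩
  exact (hw.map (fst G T).left.continuous).mem_closed (isClosed_Z0 G) hθm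

theorem transl_top {T : Over (Spec (CommRingCat.of k))} (hT : FieldPt T) {θ : ↥(G ⊗ T).left} (hθ : IsMaxPt θ)
    (hθ' : ∀ w, ((fst G T).left w ∈ Z0 G ↔ θ ⤳ w)) (c x : T ⟶ G) (q : T.left) (hc : c.left q ∈ Z0 G)
    (hx : x.left q ∈ Z0 G) : (c * x).left q ∈ Z0 G := by
  let ψ := transl (GrpShear.mulAction G) c
  have hsec : ∀ y : T ⟶ G, (lift y (𝟙 T)).left q ∈ (fst G T).left ⁻¹' Z0 G ↔ y.left q ∈ Z0 G := fun y => by
    rw [Set.mem_preimage, ← Scheme.Hom.comp_apply, ← Over.comp_left, lift_fst]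
  have hmap : ∀ y : T ⟶ G, ψ.hom.left ((lift y (𝟙 T)).left q) = (lift (c * y) (𝟙 T)).left q := fun y => by
    rw [← Scheme.Hom.comp_apply, ← Over.comp_left, sec_transl]
    rfl
  have h1 : ψ.hom.left θ ⤳ (lift c (𝟙 T)).left q := by
    have := ((hθ' _).1 (show (fst G T).left ((lift (1 : T ⟶ G) (𝟙 T)).left q) ∈ Z0 G from
      fst_unit_sec (G := G) q ▸ unitPt_mem_Z0 G)).map ψ.hom.left.continuous
    rwa [hmap, mul_one] at this
  have h2 : ψ.hom.left θ = θ := uniqAt_grp_tensor hT _ _ _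
    (isMax_homeo' (Scheme.homeoOfIso ((Over.forget _).mapIso ψ)) hθ) hθ h1 ((hθ' _).1 ((hsec c).2 hc))
  have h3 := ((hθ' _).1 ((hsec x).2 hx)).map ψ.hom.left.continuous
  rw [h2, hmap] at h3
  exact (hsec _).1 ((hθ' _).2 h3)

/-- The component of the unit is stable under multiplication of points. -/
theorem mul_mem_Z0 {Y : Over (Spec (CommRingCat.of k))} (g h : Y ⟶ G) (y : Y.left) (hg : g.left y ∈ Z0 G)
    (hh : h.left y ∈ Z0 G) : (g * h).left y ∈ Z0 G := by
  obtain ⟨T, p, hT, hp⟩ := exists_geomPointAt y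
  obtain ⟨θ, hθ, hθ'⟩ := exists_top (G := G) hT.fieldPt
  obtain ⟨q⟩ := hT.fieldPt.nonempty
  have := transl_top hT.fieldPt hθ hθ' (p ≫ g) (p ≫ h) q (by rwa [Over.comp_left, Scheme.Hom.comp_apply, hp])
    (by rwa [Over.comp_left, Scheme.Hom.comp_apply, hp])
  rwa [← MonObj.comp_mul, Over.comp_left, Scheme.Hom.comp_apply, hp] at this

/-- The component of the unit is stable under inversion of points. -/
theorem inv_mem_Z0 {Y : Over (Spec (CommRingCat.of k))} (g : Y ⟶ G) (y : Y.left) (hg : g.left y ∈ Z0 G) :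
    (g⁻¹).left y ∈ Z0 G := by
  obtain ⟨T, p, hT, hp⟩ := exists_geomPointAt y
  obtain ⟨θ, hθ, hθ'⟩ := exists_top (G := G) hT.fieldPt
  obtain ⟨q⟩ := hT.fieldPt.nonempty
  let ψ := transl (GrpShear.mulAction G) (p ≫ g)⁻¹
  have hsec : ∀ y : T ⟶ G, (lift y (𝟙 T)).left q ∈ (fst G T).left ⁻¹' Z0 G ↔ y.left q ∈ Z0 G := fun y => by
    rw [Set.mem_preimage, ← Scheme.Hom.comp_apply, ← Over.comp_left, lift_fst]
  have hmap : ∀ y : T ⟶ G, ψ.hom.left ((lift y (𝟙 T)).left q) = (lift ((p ≫ g)⁻¹ * y) (𝟙 T)).left q := fun y => by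
    rw [← Scheme.Hom.comp_apply, ← Over.comp_left, sec_transl]
    rfl
  have he : θ ⤳ (lift (1 : T ⟶ G) (𝟙 T)).left q :=
    (hθ' _).1 (fst_unit_sec (G := G) q ▸ unitPt_mem_Z0 G)
  have hpg : θ ⤳ (lift (p ≫ g) (𝟙 T)).left q :=
    (hθ' _).1 ((hsec _).2 (by rwa [Over.comp_left, Scheme.Hom.comp_apply, hp]))
  have h1 := hpg.map ψ.hom.left.continuous
  rw [hmap, inv_mul_cancel] at h1
  have h2 : ψ.hom.left θ = θ := uniqAt_grp_tensor hT.fieldPt _ _ _
    (isMax_homeo' (Scheme.homeoOfIso ((Over.forget _).mapIso ψ)) hθ) hθ h1 he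
  have h3 := he.map ψ.hom.left.continuous
  rw [h2, hmap, mul_one] at h3
  have h4 := (hsec _).1 ((hθ' _).2 h3)
  rwa [← GrpObj.comp_inv, Over.comp_left, Scheme.Hom.comp_apply, hp] at h4

/-- Every point is a product of points lying in two given dense open subsets. -/
theorem exists_mul_mem_of_dense {U V : Set G.left} (hU : IsOpen U) (hUd : Dense U) (hV : IsOpen V) (hVd : Dense V)
    (x : G.left) : ∃ z : ↥(G ⊗ G).left,
      (fst G G).left z ∈ U ∧ (snd G G).left z ∈ V ∧ μ[G].left z = x := by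
  obtain ⟨T, p, hT, hp⟩ := exists_geomPointAt x
  obtain ⟨q⟩ := hT.fieldPt.nonempty
  haveI := universallyOpen_fst (X := G) T
  let v : G ⊗ T ⟶ G := (fst G T)⁻¹ * (snd G T ≫ p)
  let Ψ : G ⊗ T ≅ G ⊗ T :=
    { hom := lift v (snd G T)
      inv := lift ((snd G T ≫ p) * (fst G T)⁻¹) (snd G T)
      hom_inv_id := CartesianMonoidalCategory.hom_ext _ _
        (by simp [v, MonObj.comp_mul, GrpObj.comp_inv]) (by simp)
      inv_hom_id := CartesianMonoidalCategory.hom_ext _ _
        (by simp [v, MonObj.comp_mul, GrpObj.comp_inv]) (by simp) }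
  have hvd : Dense (v.left ⁻¹' V) := by
    have h1 : v.left ⁻¹' V = Ψ.hom.left ⁻¹' ((fst G T).left ⁻¹' V) := by
      rw [← Set.preimage_comp]
      show _ = (fun w => (fst G T).left (Ψ.hom.left w)) ⁻¹' V
      simp only [← Scheme.Hom.comp_apply, ← Over.comp_left, Ψ, lift_fst]
    rw [h1]
    exact (hVd.preimage (fst G T).left.isOpenMap).preimage
      (Scheme.homeoOfIso ((Over.forget _).mapIso Ψ)).isOpenMap
  haveI : Nonempty ↥(G ⊗ T).left := ⟨(lift (1 : T ⟶ G) (𝟙 T)).left q⟩
  obtain ⟨w, hw₁, hw₂⟩ := hvd.inter_open_nonempty _ (hU.preimage (fst G T).left.continuous)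
    ((hUd.preimage (fst G T).left.isOpenMap).nonempty)
  refine ⟨(lift (fst G T) v).left w, ?_, ?_, ?_⟩
  · rwa [← Scheme.Hom.comp_apply, ← Over.comp_left, lift_fst]
  · rwa [← Scheme.Hom.comp_apply, ← Over.comp_left, lift_snd]
  · rw [← Scheme.Hom.comp_apply, ← Over.comp_left, ← Hom.mul_def, show fst G T * v = snd G T ≫ p by simp [v],
      Over.comp_left, Scheme.Hom.comp_apply, hp]

/-- The component of the unit is quasi-compact. -/
theorem isCompact_Z0 : IsCompact (Z0 G) := by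
  obtain ⟨U, hU, heU, -⟩ := exists_isAffineOpen_mem_and_subset (X := G.left) (x := unitPt G) (U := ⊤) trivial
  haveI : IsAffine (U : Scheme.{u}) := hU
  let jU : Over.mk (U.ι ≫ G.hom) ⟶ G := Over.homMk U.ι rfl
  haveI : CompactSpace ↥(Over.mk (U.ι ≫ G.hom) ⊗ Over.mk (U.ι ≫ G.hom)).left :=
    inferInstanceAs (CompactSpace ↥(pullback (U.ι ≫ G.hom) (U.ι ≫ G.hom)))
  refine (isCompact_range ((jU ⊗ₘ jU) ≫ μ[G]).left.continuous).of_isClosed_subset (isClosed_Z0 G) fun x hx => ?_
  obtain ⟨T, p, hT, hp⟩ := exists_geomPointAt x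
  obtain ⟨θ, hθ, hθ'⟩ := exists_top (G := G) hT.fieldPt
  obtain ⟨q⟩ := hT.fieldPt.nonempty
  let v : G ⊗ T ⟶ G := (fst G T)⁻¹ * (snd G T ≫ p)
  have h₁ : (fst G T).left θ ∈ U := by
    have := (hθ' _).1 (fst_unit_sec (G := G) q ▸ unitPt_mem_Z0 G)
    exact (fst_unit_sec (G := G) q ▸ this.map (fst G T).left.continuous).mem_open U.2 heU
  have h₂ : v.left θ ∈ U := by
    have h : θ ⤳ (lift p (𝟙 T)).left q := (hθ' _).1 (by
      rw [← Scheme.Hom.comp_apply, ← Over.comp_left, lift_fst, hp]; exact hx)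
    refine (h.map v.left.continuous).mem_open U.2 ?_
    rw [← Scheme.Hom.comp_apply, ← Over.comp_left, show lift p (𝟙 T) ≫ v = 1 by
      simp [v, MonObj.comp_mul, GrpObj.comp_inv]]
    rw [← fst_unit_sec (G := G) q, ← Scheme.Hom.comp_apply, ← Over.comp_left, lift_fst] at heU
    exact heU
  let P := lift (fst G T) v
  obtain ⟨z, hz⟩ := WeilRes.range_tensor_mem jU (P.left θ)
    (by rw [← Scheme.Hom.comp_apply, ← Over.comp_left, lift_fst]; exact (Scheme.Opens.range_ι U).ge h₁)
    (by rw [← Scheme.Hom.comp_apply, ← Over.comp_left, lift_snd]; exact (Scheme.Opens.range_ι U).ge h₂)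
  refine ⟨z, ?_⟩
  rw [Over.comp_left, Scheme.Hom.comp_apply, hz, ← Scheme.Hom.comp_apply, ← Over.comp_left, ← Hom.mul_def,
    show fst G T * v = snd G T ≫ p by simp [v], Over.comp_left, Scheme.Hom.comp_apply, hp]

end Groth.Agent.GrpField
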