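import Mathlib

/-!
# Intersections of clopen subschemes

An intersection of clopen subsets is the range of a flat closed immersion through which every morphism
with values in that set factors.
-/

set_option autoImplicit false

universe u

open CategoryTheory AlgebraicGeometry

namespace Groth.Agent.GrpField

theorem pure_ker_of_flat {R S : Type u} [CommRing R] [CommRing S] (f : R →+* S) (hs : Function.Surjective f)
    (hf : f.Flat) : (RingHom.ker f).Pure := by
  algebraize [f]
  exact Module.Flat.of_linearEquiv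
    (Ideal.quotientKerAlgEquivOfSurjective (f := Algebra.ofId R S) hs).toLinearEquiv

theorem pure_iSup {R : Type u} [CommRing R] {ι : Sort*} (J : ι → Ideal R) (h : ∀ i, (J i).Pure) :
    (⨆ i, J i).Pure := by
  have key : ∀ x ∈ ⨆ i, J i, ∃ y ∈ ⨆ i, J i, x = x * y := by
    intro x hx
    refine Submodule.iSup_induction J (motive := fun x => ∃ y ∈ ⨆ i, J i, x = x * y) hx
      (fun i z hz => ?_) ⟨0, Submodule.zero_mem _, by simp⟩ ?_
    · haveI := h i
      obtain ⟨y, hy, he⟩ := Ideal.exists_eq_mul_of_pure hz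
      exact ⟨y, Submodule.mem_iSup_of_mem i hy, he⟩
    · rintro a b ⟨y, hy, ha⟩ ⟨z, hz, hb⟩
      exact ⟨y + z - y * z, Submodule.sub_mem _ (Submodule.add_mem _ hy hz) (Ideal.mul_mem_left _ _ hz),
        by linear_combination (1 - z) * ha + (1 - y) * hb⟩
  refine Ideal.Pure.of_inf_eq_mul _ fun K _ => le_antisymm (fun x hx => ?_) Ideal.mul_le_inf
  obtain ⟨hx, hxK⟩ := hx
  obtain ⟨y, hy, he⟩ := key x hx
  have h1 := Ideal.mul_mem_mul hy hxK
  rwa [mul_comm y x, ← he] at h1

/-- An intersection of clopen subsets carries a flat closed subscheme with the universal property of an open one. -/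
theorem exists_flat_closed_of_clopens {A : Scheme.{u}} (Z : Set A)
    (h : ∀ x ∉ Z, ∃ D : Set A, IsClopen D ∧ Z ⊆ D ∧ x ∉ D) :
    ∃ (Z' : Scheme.{u}) (i : Z' ⟶ A), IsClosedImmersion i ∧ Flat i ∧ Set.range i = Z ∧
      ∀ {Y : Scheme.{u}} (g : Y ⟶ A), Set.range g ⊆ Z → ∃ l, l ≫ i = g := by
  let I : {D : A.Opens // IsClosed (D : Set A) ∧ Z ⊆ D} → A.IdealSheafData := fun D => D.1.ι.ker
  have hci : ∀ D : {D : A.Opens // IsClosed (D : Set A) ∧ Z ⊆ D}, IsClosedImmersion D.1.ι := fun D =>
    .of_isPreimmersion _ (by rw [Scheme.Opens.range_ι]; exact D.2.1)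
  refine ⟨(iSup I).subscheme, (iSup I).subschemeι, inferInstance, ?_, ?_, ?_⟩
  · have hpure : ∀ U : A.affineOpens, ((iSup I).ideal U).Pure := fun U => by
      rw [Scheme.IdealSheafData.ideal_iSup, iSup_apply]
      refine pure_iSup _ fun D => ?_
      haveI := hci D
      rw [Scheme.Hom.ker_apply]
      refine pure_ker_of_flat _ (D.1.ι.app_surjective U.1 U.2) ?_
      rw [Scheme.Hom.app_eq_appLE]
      exact HasRingHomProperty.appLE @Flat D.1.ι inferInstance U ⟨_, U.2.preimage D.1.ι⟩ le_rfl
    rw [IsZariskiLocalAtSource.iff_of_openCover (P := @Flat) (iSup I).subschemeCover.openCover]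
    intro (U : A.affineOpens)
    refine (congrArg Flat ((iSup I).subschemeCover_map_subschemeι U)).mpr ?_
    have h1 : Flat (Spec.map (CommRingCat.ofHom (Ideal.Quotient.mk ((iSup I).ideal U)))) :=
      Flat.SpecMap_iff.2 ((RingHom.flat_algebraMap_iff (R := Γ(A, U.1)) (S := Γ(A, U.1) ⧸ _)).2 (hpure U))
    have h2 : Flat ((iSup I).glueDataObjι U) := @Flat.comp _ _ _ _ _ h1 inferInstance
    exact @Flat.comp _ _ _ _ _ h2 inferInstance
  · rw [Scheme.IdealSheafData.range_subschemeι, Scheme.IdealSheafData.support_iSup]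
    ext x
    simp only [TopologicalSpace.Closeds.coe_iInf, Set.mem_iInter]
    have hsupp : ∀ D : {D : A.Opens // IsClosed (D : Set A) ∧ Z ⊆ D}, ((I D).support : Set A) = (D.1 : Set A) :=
      fun D => by
        haveI := hci D
        rw [Scheme.Hom.support_ker, Scheme.Opens.range_ι]
        exact D.2.1.closure_eq
    simp only [hsupp]
    refine ⟨fun hx => ?_, fun hx D => D.2.2 hx⟩
    by_contra hxZ
    obtain ⟨D, hD, hZD, hxD⟩ := h x hxZ
    exact hxD (hx ⟨⟨D, hD.2⟩, hD.1, hZD⟩)
  · intro Y g hg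
    refine ⟨IsClosedImmersion.lift (iSup I).subschemeι g ?_, IsClosedImmersion.lift_fac _ _ _⟩
    rw [Scheme.IdealSheafData.ker_subschemeι]
    refine iSup_le fun D => ?_
    rw [← IsOpenImmersion.lift_fac D.1.ι g (by rw [Scheme.Opens.range_ι]; exact hg.trans D.2.2)]
    exact Scheme.Hom.le_ker_comp _ _

end Groth.Agent.GrpField
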