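import Groth.Agent.GrpFieldLib.Comps
import Groth.Agent.GrpFieldLib.ClopenSub
import Groth.Agent.WeilResLib.Transporter

/-!
# The identity component as a flat closed subgroup
-/

set_option autoImplicit false
set_option backward.isDefEq.respectTransparency false
set_option maxHeartbeats 400000

noncomputable section

universe u

open CategoryTheory CategoryTheory.Limits MonoidalCategory CartesianMonoidalCategory AlgebraicGeometry
open scoped MonObj
open Groth.Agent.HomogDense

namespace Groth.Agent.GrpField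

variable {k : Type u} [Field k] {G : Over (Spec (CommRingCat.of k))} [GrpObj G]

theorem exists_clopen_Z0 {x : G.left} (hx : x ∉ Z0 G) : ∃ D : Set G.left, IsClopen D ∧ Z0 G ⊆ D ∧ x ∉ D := by
  haveI := quasiSeparatedSpace_grp (G := G)
  obtain ⟨z, hz, hze, hZ⟩ := exists_Z0_gen G
  obtain ⟨ξ, hξ, hξx⟩ := exists_isMax_specializes x
  have hne : ¬ ξ ⤳ unitPt G := fun h => hx (by
    rw [hZ, uniqAt_grp _ _ _ hz hξ hze h]
    exact hξx.mem_closure)
  obtain ⟨O, hO, heO, hξO⟩ : ∃ O : Set G.left, IsOpen O ∧ unitPt G ∈ O ∧ ξ ∉ O := by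
    simpa [specializes_iff_forall_open] using hne
  obtain ⟨U, hU, heU, hUO⟩ := exists_isAffineOpen_mem_and_subset (X := G.left) (x := unitPt G) (U := ⟨O, hO⟩) heO
  have hD := isClopen_compsMeeting (GrpShear.mulAction G) surjective_mulAction_shear U hU.isCompact
  refine ⟨_, hD, ?_, fun h => hξO (hUO (h ξ hξ hξx))⟩
  rw [← connectedComponent_unit]
  exact hD.connectedComponent_subset fun ξ' _ hs => hs.mem_open U.2 heU

/-- The identity component is a flat closed subgroup, geometrically irreducible and quasi-compact. -/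
theorem exists_identity_component : ∃ (G₀ : Over (Spec (CommRingCat.of k))) (_ : GrpObj G₀) (i : G₀ ⟶ G),
    IsMonHom i ∧ IsClosedImmersion i.left ∧ Flat i.left ∧ Set.range i.left = Z0 G ∧
      GeometricallyIrreducible G₀.hom ∧ CompactSpace ↥G₀.left := by
  obtain ⟨Z, incl, hci, hfl, hr, hfac⟩ := exists_flat_closed_of_clopens (Z0 G) fun x hx => exists_clopen_Z0 hx
  let i : Over.mk (incl ≫ G.hom) ⟶ G := Over.homMk incl rfl
  haveI : Mono i.left := inferInstanceAs (Mono incl)
  haveI : Mono i := (Over.forget _).mono_of_mono_map (inferInstanceAs (Mono incl))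
  have hfac' : ∀ {Y : Over (Spec (CommRingCat.of k))} (g : Y ⟶ G),
      (∃ z, z ≫ i = g) ↔ ∀ y, g.left y ∈ Z0 G := fun {Y} g => by
    refine ⟨?_, fun h => ?_⟩
    · rintro ⟨z, rfl⟩ y
      rw [Over.comp_left, Scheme.Hom.comp_apply, ← hr]
      exact ⟨z.left y, rfl⟩
    · obtain ⟨l, hl⟩ := hfac g.left (Set.range_subset_iff.2 h)
      refine ⟨Over.homMk l ?_, by ext1; exact hl⟩
      rw [← Over.w g, ← hl]
      exact (Category.assoc _ _ _).symm
  obtain ⟨hg, hmon⟩ := WeilRes.exists_grpObj_of_pred i (fun {Y} g => ∀ y, g.left y ∈ Z0 G) hfac'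
    (fun y => by
      rw [Hom.one_def, Subsingleton.elim (toUnit (𝟙_ (Over (Spec (CommRingCat.of k))))) (𝟙 _), Category.id_comp]
      haveI : Subsingleton ↥(𝟙_ (Over (Spec (CommRingCat.of k)))).left := inferInstanceAs (Subsingleton (PrimeSpectrum k))
      rw [Subsingleton.elim y (IsLocalRing.closedPoint k)]
      exact unitPt_mem_Z0 G)
    (fun a b ha hb y => mul_mem_Z0 a b y (ha y) (hb y)) (fun a ha y => inv_mem_Z0 a y (ha y))
  refine ⟨_, hg, i, hmon, hci, hfl, hr, geometricallyIrreducible_of_range incl hr, ?_⟩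
  have h := isCompact_Z0 (G := G)
  rw [← hr, ← Set.image_univ, ← incl.isClosedEmbedding.isEmbedding.isInducing.isCompact_iff] at h
  exact ⟨h⟩

end Groth.Agent.GrpField
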