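import Groth.Agent.GrpFieldLib.Comps

/-!
# Minimal primes of local rings, dense opens and products in group schemes
-/

set_option autoImplicit false
set_option backward.isDefEq.respectTransparency false
set_option maxHeartbeats 400000

noncomputable section

universe u

open CategoryTheory CategoryTheory.Limits MonoidalCategory CartesianMonoidalCategory AlgebraicGeometry
open scoped MonObj
open Groth.Agent.HomogDense

namespace Groth.Agent.GrpField

theorem minimalPrimes_stalk_subsingleton_of_uniqAt {A : Scheme.{u}} {x : A} (h : UniqAt x) :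
    (minimalPrimes (A.presheaf.stalk x)).Subsingleton := by
  have key : ∀ p ∈ minimalPrimes (A.presheaf.stalk x), ∃ P : PrimeSpectrum (A.presheaf.stalk x),
      P.asIdeal = p ∧ IsMaxPt (A.fromSpecStalk x P) ∧ A.fromSpecStalk x P ⤳ x := by
    intro p hp
    haveI : p.IsPrime := hp.1.1
    let P : PrimeSpectrum (A.presheaf.stalk x) := ⟨p, inferInstance⟩
    have hPx : A.fromSpecStalk x P ⤳ x := (Scheme.range_fromSpecStalk (x := x)).le ⟨P, rfl⟩
    refine ⟨P, rfl, fun z hz => ?_, hPx⟩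
    obtain ⟨P', rfl⟩ := (Scheme.range_fromSpecStalk (x := x)).ge (hz.trans hPx)
    have h1 : P' ⤳ P := (A.fromSpecStalk x).isEmbedding.isInducing.specializes_iff.1 hz
    have h2 : P'.asIdeal ≤ p := (PrimeSpectrum.le_iff_specializes _ _).2 h1
    rw [show P' = P from PrimeSpectrum.ext (le_antisymm h2 (hp.2 ⟨P'.isPrime, bot_le⟩ h2))]
  intro p hp p' hp'
  obtain ⟨P, rfl, hP, hPx⟩ := key p hp
  obtain ⟨P', rfl, hP', hPx'⟩ := key p' hp'
  rw [(A.fromSpecStalk x).isEmbedding.injective (h _ _ hP hP' hPx hPx')]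

/-- The closure of a retrocompact open subset consists of specialisations of its points. -/
theorem exists_specializes_of_mem_closure {A : Scheme.{u}} {U : A.Opens} (hU : IsRetrocompact (U : Set A)) {y : A}
    (hy : y ∈ closure (U : Set A)) : ∃ u ∈ U, u ⤳ y := by
  obtain ⟨W, hW, hyW, -⟩ := exists_isAffineOpen_mem_and_subset (X := A) (x := y) (U := ⊤) trivial
  obtain ⟨p, rfl⟩ := hW.range_fromSpec.ge hyW
  let U' : Set (PrimeSpectrum Γ(A, W)) := hW.fromSpec ⁻¹' (U : Set A)
  have hc : IsCompact U' := by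
    rw [hW.fromSpec.isOpenEmbedding.isEmbedding.isInducing.isCompact_iff, Set.image_preimage_eq_inter_range,
      hW.range_fromSpec]
    exact hU hW.isCompact W.2
  have hp : p ∈ closure U' := hW.fromSpec.isOpenEmbedding.isOpenMap.preimage_closure_subset_closure_preimage hy
  obtain ⟨s, hs⟩ := (PrimeSpectrum.isBasis_basic_opens (R := Γ(A, W))).exists_finite_of_isCompact
    (U := ⟨U', U.2.preimage hW.fromSpec.continuous⟩) hc
  suffices h : ∃ q ∈ U', q ⤳ p from
    let ⟨q, hq, hqp⟩ := h; ⟨_, hq, hqp.map hW.fromSpec.continuous⟩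
  obtain ⟨hsub, hfin, hUeq⟩ := hs
  have hU' : U' = ⋃ V ∈ s, ((V : TopologicalSpace.Opens (PrimeSpectrum Γ(A, W))) : Set (PrimeSpectrum Γ(A, W))) := by
    have := congrArg (fun O : TopologicalSpace.Opens (PrimeSpectrum Γ(A, W)) => (O : Set (PrimeSpectrum Γ(A, W)))) hUeq
    simpa [Set.sUnion_eq_biUnion] using this
  rw [hU', hfin.closure_biUnion] at hp
  simp only [Set.mem_iUnion] at hp
  obtain ⟨V, hV, hpV⟩ := hp
  obtain ⟨f, rfl⟩ := hsub hV
  suffices h : ∃ q : PrimeSpectrum Γ(A, W), f ∉ q.asIdeal ∧ q.asIdeal ≤ p.asIdeal by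
    obtain ⟨q, hq, hqp⟩ := h
    refine ⟨q, ?_, (PrimeSpectrum.le_iff_specializes q p).1 hqp⟩
    rw [hU']
    exact Set.mem_biUnion hV hq
  by_contra! hne
  have hnil : IsNilpotent (algebraMap Γ(A, W) (Localization.AtPrime p.asIdeal) f) := by
    refine nilpotent_iff_mem_prime.2 fun J hJ => ?_
    by_contra hf
    refine hne ⟨J.comap (algebraMap _ _), hJ.comap _⟩ hf fun c hc => ?_
    by_contra hcp
    exact hJ.ne_top (Ideal.eq_top_of_isUnit_mem _ hc (IsLocalization.map_units _ (⟨c, hcp⟩ : p.asIdeal.primeCompl)))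
  obtain ⟨n, hn⟩ := hnil
  rw [← map_pow] at hn
  obtain ⟨⟨c, hc⟩, hcn⟩ := (IsLocalization.map_eq_zero_iff p.asIdeal.primeCompl _ _).1 hn
  obtain ⟨q, hqc, hqf⟩ := mem_closure_iff.1 hpV _ (PrimeSpectrum.basicOpen c).2 hc
  have : c * f ^ n ∈ q.asIdeal := by rw [show c * f ^ n = 0 from hcn]; exact zero_mem _
  rcases q.isPrime.mem_or_mem this with h | h
  · exact hqc h
  · exact hqf (q.isPrime.mem_of_pow_mem n h)

theorem universallyOpen_of_surjective_closedImmersion {A B : Scheme.{u}} (i : A ⟶ B) [IsClosedImmersion i]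
    [Surjective i] : UniversallyOpen i := by
  refine ⟨fun T T' g h e hsq => ?_⟩
  haveI : IsClosedImmersion e := MorphismProperty.of_isPullback hsq.flip ‹_›
  haveI : Surjective e := MorphismProperty.of_isPullback hsq.flip ‹_›
  exact (e.isClosedEmbedding.isEmbedding.toHomeomorphOfSurjective e.surjective).isOpenMap

variable {S : Scheme.{u}}

/-- Points are products of points in dense opens, over a base with universally open points. -/
theorem exists_mul_mem_of_dense_base {G : Over S} [GrpObj G]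
    (hopen : ∀ (K : Type u) [Field K] (t : Spec (CommRingCat.of K) ⟶ S), IsOpenMap (pullback.fst G.hom t))
    {U V : Set G.left} (hU : IsOpen U) (hUd : Dense U) (hV : IsOpen V) (hVd : Dense V)
    (x : G.left) : ∃ z : ↥(G ⊗ G).left,
      (fst G G).left z ∈ U ∧ (snd G G).left z ∈ V ∧ μ[G].left z = x := by
  obtain ⟨K, _, _, π, hπ⟩ := exists_geomPoint x
  let T : Over S := Over.mk (π ≫ G.hom)
  let p : T ⟶ G := Over.homMk π rfl
  let q : T.left := (IsLocalRing.closedPoint K : PrimeSpectrum K)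
  have hfo : IsOpenMap (fst G T).left := hopen K (π ≫ G.hom)
  let v : G ⊗ T ⟶ G := (fst G T)⁻¹ * (snd G T ≫ p)
  let Ψ : G ⊗ T ≅ G ⊗ T :=
    { hom := lift v (snd G T)
      inv := lift ((snd G T ≫ p) * (fst G T)⁻¹) (snd G T)
      hom_inv_id := CartesianMonoidalCategory.hom_ext _ _
        (by simp [v, MonObj.comp_mul, GrpObj.comp_inv]) (by simp)
      inv_hom_id := CartesianMonoidalCategory.hom_ext _ _
        (by simp [v, MonObj.comp_mul, GrpObj.comp_inv]) (by simp) }
  have hvd : Dense (v.left ⁻¹' V) := by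
    have h1 : v.left ⁻¹' V = Ψ.hom.left ⁻¹' ((fst G T).left ⁻¹' V) := by
      rw [← Set.preimage_comp]
      show _ = (fun w => (fst G T).left (Ψ.hom.left w)) ⁻¹' V
      simp only [← Scheme.Hom.comp_apply, ← Over.comp_left, Ψ, lift_fst]
    rw [h1]
    exact (hVd.preimage hfo).preimage (Scheme.homeoOfIso ((Over.forget _).mapIso Ψ)).isOpenMap
  haveI : Nonempty ↥(G ⊗ T).left := ⟨(lift p (𝟙 T)).left q⟩
  obtain ⟨w, hw₁, hw₂⟩ := hvd.inter_open_nonempty _ (hU.preimage (fst G T).left.continuous)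
    ((hUd.preimage hfo).nonempty)
  refine ⟨(lift (fst G T) v).left w, ?_, ?_, ?_⟩
  · rwa [← Scheme.Hom.comp_apply, ← Over.comp_left, lift_fst]
  · rwa [← Scheme.Hom.comp_apply, ← Over.comp_left, lift_snd]
  · rw [← Scheme.Hom.comp_apply, ← Over.comp_left, ← Hom.mul_def, show fst G T * v = snd G T ≫ p by simp [v],
      Over.comp_left, Scheme.Hom.comp_apply]
    exact hπ _

/-- Points are products of maximal points. -/
theorem exists_mul_max {k : Type u} [Field k] {G : Over (Spec (CommRingCat.of k))} [GrpObj G] (x : G.left) :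
    ∃ z : ↥(G ⊗ G).left, μ[G].left z = x ∧ IsMaxPt ((fst G G).left z) ∧ IsMaxPt ((snd G G).left z) := by
  obtain ⟨T, p, hT, hp⟩ := exists_geomPointAt x
  obtain ⟨q⟩ := hT.fieldPt.nonempty
  haveI := flat_fst (X := G) T
  obtain ⟨θ, hθ, -⟩ := exists_isMax_specializes ((lift (1 : T ⟶ G) (𝟙 T)).left q)
  let v : G ⊗ T ⟶ G := (fst G T)⁻¹ * (snd G T ≫ p)
  let Ψ : G ⊗ T ≅ G ⊗ T :=
    { hom := lift v (snd G T)
      inv := lift ((snd G T ≫ p) * (fst G T)⁻¹) (snd G T)
      hom_inv_id := CartesianMonoidalCategory.hom_ext _ _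
        (by simp [v, MonObj.comp_mul, GrpObj.comp_inv]) (by simp)
      inv_hom_id := CartesianMonoidalCategory.hom_ext _ _
        (by simp [v, MonObj.comp_mul, GrpObj.comp_inv]) (by simp) }
  refine ⟨(lift (fst G T) v).left θ, ?_, ?_, ?_⟩
  · rw [← Scheme.Hom.comp_apply, ← Over.comp_left, ← Hom.mul_def, show fst G T * v = snd G T ≫ p by simp [v],
      Over.comp_left, Scheme.Hom.comp_apply, hp]
  · rw [← Scheme.Hom.comp_apply, ← Over.comp_left, lift_fst]
    exact isMax_map _ hθ
  · rw [← Scheme.Hom.comp_apply, ← Over.comp_left, lift_snd,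
      show v = Ψ.hom ≫ fst G T from (lift_fst _ _).symm, Over.comp_left, Scheme.Hom.comp_apply]
    exact isMax_map _ (isMax_homeo' (Scheme.homeoOfIso ((Over.forget _).mapIso Ψ)) hθ)

end Groth.Agent.GrpField
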