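import Groth.Prelude.Def_AlgGrp
import Mathlib.AlgebraicGeometry.Morphisms.LocalFlatDescent
import Mathlib.AlgebraicGeometry.Morphisms.Smooth
import Mathlib.AlgebraicGeometry.Limits

/-!
# A homomorphism is a torsor under its kernel
-/

set_option autoImplicit false
set_option backward.isDefEq.respectTransparency false

noncomputable section

universe u

open CategoryTheory MonoidalCategory CartesianMonoidalCategory AlgebraicGeometry
open scoped MonObj

namespace Groth.Agent.GrpKerShear

variable {S : Scheme.{u}} {G H N : Over S} [GrpObj G] [GrpObj H] (φ : G ⟶ H) [IsMonHom φ] (i : N ⟶ G)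

theorem hom_mul {T : Over S} (a b : T ⟶ G) : (a * b) ≫ φ = (a ≫ φ) * (b ≫ φ) := by
  simp [Hom.mul_def, IsMonHom.mul_hom, lift_map_assoc]

theorem hom_inv {T : Over S} (a : T ⟶ G) : a⁻¹ ≫ φ = (a ≫ φ)⁻¹ := by
  refine eq_inv_of_mul_eq_one_left ?_
  rw [← hom_mul, inv_mul_cancel, Hom.one_def, Category.assoc, IsMonHom.one_hom, ← Hom.one_def]

theorem isPullback_shear (hN : AlgGrp.IsKernel i φ) :
    IsPullback (fst G N) (fst G N * (snd G N ≫ i)) φ φ := by
  have hi : i ≫ φ = (1 : N ⟶ H) := by rw [hN.w, Hom.one_def]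
  refine ⟨⟨?_⟩, ⟨Limits.PullbackCone.IsLimit.mk _
    (fun s => lift s.fst (hN.lift (s.fst⁻¹ * s.snd) (toUnit _) ?_)) (fun s => ?_) (fun s => ?_)
    (fun s m h1 h2 => ?_)⟩⟩
  · rw [hom_mul, Category.assoc, hi, MonObj.comp_one, _root_.mul_one]
  · rw [hom_mul, hom_inv, s.condition, inv_mul_cancel, Hom.one_def]
  · simp
  · show lift _ _ ≫ (fst G N * (snd G N ≫ i)) = _
    rw [MonObj.comp_mul, lift_fst, lift_snd_assoc, hN.lift_fst, mul_inv_cancel_left]
  · refine CartesianMonoidalCategory.hom_ext _ _ (by simpa using h1) ?_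
    rw [lift_snd]
    refine hN.hom_ext ?_ (toUnit_unique _ _)
    rw [hN.lift_fst]
    have h2' : m ≫ (fst G N * (snd G N ≫ i)) = s.snd := h2
    rw [MonObj.comp_mul, h1] at h2'
    rw [← h2', inv_mul_cancel_left, Category.assoc]

theorem smooth_of_smooth_kernel (hN : AlgGrp.IsKernel i φ) [Flat φ.left] [Surjective φ.left] [QuasiCompact φ.left]
    (h : Smooth N.hom) : Smooth φ.left := by
  have sq := (isPullback_shear φ i hN).map (Over.forget S)
  have h1 : Smooth (fst G N).left := MorphismProperty.pullback_fst _ _ h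
  exact MorphismProperty.of_isPullback_of_descendsAlong (Q := (@Surjective ⊓ @Flat ⊓ @QuasiCompact)) sq
    ⟨⟨‹Surjective φ.left›, ‹Flat φ.left›⟩, ‹QuasiCompact φ.left›⟩ h1

theorem smooth_kernel_of_smooth (hN : AlgGrp.IsKernel i φ) (h : Smooth φ.left) : Smooth N.hom := by
  have sq := hN.map (Over.forget S)
  haveI : Smooth (toUnit N).left := MorphismProperty.of_isPullback sq h
  rw [← Over.w (toUnit N)]
  exact MorphismProperty.comp_mem _ _ _ this (inferInstanceAs (Smooth (𝟙 S)))

end Groth.Agent.GrpKerShear
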