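import Groth.Agent.HomogDenseLib.Max
import Groth.Agent.SweepSix.GeomConn

/-!
# Points lying on a single irreducible component
-/

set_option autoImplicit false
set_option backward.isDefEq.respectTransparency false

noncomputable section

universe u

open CategoryTheory CategoryTheory.Limits AlgebraicGeometry
open Groth.Agent.HomogDense

namespace Groth.Agent.GrpField

variable {A B : Scheme.{u}}

/-- The point `x` lies on only one irreducible component. -/
def UniqAt (x : A) : Prop := ∀ ξ ξ', IsMaxPt ξ → IsMaxPt ξ' → ξ ⤳ x → ξ' ⤳ x → ξ = ξ'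

theorem isMax_map (m : A ⟶ B) [Flat m] {θ : A} (h : IsMaxPt θ) : IsMaxPt (m θ) := fun z hz => by
  obtain ⟨z', hz', rfl⟩ := Flat.generalizingMap m hz
  rw [h z' hz']

theorem UniqAt.map (m : A ⟶ B) [Flat m] {a : A} (h : UniqAt a) : UniqAt (m a) := by
  intro ξ ξ' hξ hξ' hs hs'
  obtain ⟨e, he, rfl⟩ := Flat.generalizingMap m hs
  obtain ⟨e', he', rfl⟩ := Flat.generalizingMap m hs'
  obtain ⟨θ, hθ, hθe⟩ := exists_isMax_specializes e
  obtain ⟨θ', hθ', hθe'⟩ := exists_isMax_specializes e'
  rw [← hξ (m θ) (hθe.map m.continuous), ← hξ' (m θ') (hθe'.map m.continuous),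
    h θ θ' hθ hθ' (hθe.trans he) (hθe'.trans he')]

theorem isMax_homeo' (φ : A ≃ₜ B) {θ : A} (h : IsMaxPt θ) : IsMaxPt (φ θ) := fun z hz => by
  have h1 : φ.symm z ⤳ θ := by simpa using hz.map φ.symm.continuous
  rw [← h _ h1, φ.apply_symm_apply]

theorem UniqAt.homeo (φ : A ≃ₜ B) {a : A} (h : UniqAt a) : UniqAt (φ a) := fun ξ ξ' hξ hξ' hs hs' => by
  have h1 : φ.symm ξ ⤳ a := by simpa using hs.map φ.symm.continuous
  have h2 : φ.symm ξ' ⤳ a := by simpa using hs'.map φ.symm.continuous
  exact φ.symm.injective (h _ _ (isMax_homeo' φ.symm hξ) (isMax_homeo' φ.symm hξ') h1 h2)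

/-- A maximal point inside an irreducible set specialises to all of it. -/
theorem specializes_of_isMax_mem {F : Set A} (hF : IsIrreducible F) {θ : A} (hθ : IsMaxPt θ) (hθF : θ ∈ F) {w : A}
    (hw : w ∈ F) : θ ⤳ w := by
  have hg := hF.isGenericPoint_genericPoint_closure
  have h1 : hF.genericPoint = θ := hθ _ (hg.specializes (subset_closure hθF))
  exact h1 ▸ hg.specializes (subset_closure hw)

theorem eq_of_isMax_mem {F : Set A} (hF : IsIrreducible F) {θ θ' : A} (h : IsMaxPt θ) (h' : IsMaxPt θ') (hF₁ : θ ∈ F)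
    (hF₂ : θ' ∈ F) : θ = θ' :=
  h' θ (specializes_of_isMax_mem hF h hF₁ hF₂)

theorem uniqueMax_iff {x : A} :
    (UniqAt x) ↔ ∃! C : Set A, C ∈ irreducibleComponents A ∧ x ∈ C := by
  obtain ⟨ξ₀, hξ₀, hs₀⟩ := exists_isMax_specializes x
  constructor
  · intro h
    refine ⟨closure {ξ₀}, ⟨closure_mem_irreducibleComponents hξ₀, hs₀.mem_closure⟩, fun C ⟨hC, hxC⟩ => ?_⟩
    have hg := hC.1.isGenericPoint_genericPoint (isClosed_of_mem_irreducibleComponents _ hC)
    have hmax : IsMaxPt hC.1.genericPoint := by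
      intro z hz
      have h1 : C ⊆ closure {z} := by
        rw [← hg.def]
        exact closure_minimal (Set.singleton_subset_iff.2 hz.mem_closure) isClosed_closure
      have h2 : closure {z} ⊆ C := hC.2 isIrreducible_singleton.closure h1
      exact ((hg.specializes (h2 (subset_closure rfl))).antisymm hz).eq.symm
    rw [← hg.def, h _ _ hmax hξ₀ (hg.specializes hxC) hs₀]
  · rintro ⟨C, -, huniq⟩ ξ ξ' hξ hξ' hs hs'
    have h1 := huniq _ ⟨closure_mem_irreducibleComponents hξ, hs.mem_closure⟩
    have h2 := huniq _ ⟨closure_mem_irreducibleComponents hξ', hs'.mem_closure⟩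
    exact IsGenericPoint.eq (show IsGenericPoint ξ (closure {ξ'}) from (h1.trans h2.symm)) rfl

variable {k : Type u} [Field k]

theorem flat_field (t : A ⟶ Spec (CommRingCat.of k)) : Flat t := inferInstance

theorem gi_field {K : Type u} [Field K] [IsAlgClosed k] (t : Spec (CommRingCat.of K) ⟶ Spec (CommRingCat.of k)) :
    GeometricallyIrreducible t := by
  obtain ⟨φ, rfl⟩ := Spec.map_surjective t
  letI := φ.hom.toAlgebra
  exact SweepSix.GeomConn.gi_specMap (k := k) K

theorem surjective_field {K : Type u} [Field K] (t : Spec (CommRingCat.of K) ⟶ Spec (CommRingCat.of k)) :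
    Surjective t :=
  haveI : Subsingleton ↥(Spec (CommRingCat.of k)) := inferInstanceAs (Subsingleton (PrimeSpectrum k))
  haveI : Nonempty ↥(Spec (CommRingCat.of K)) := inferInstanceAs (Nonempty (PrimeSpectrum K))
  ⟨Function.surjective_to_subsingleton _⟩

theorem universallyOpen_field (t : A ⟶ Spec (CommRingCat.of k)) : UniversallyOpen t :=
  haveI : Subsingleton ↥(Spec (CommRingCat.of k)) := inferInstanceAs (Subsingleton (PrimeSpectrum k))
  inferInstance

/-- The geometric point at a point of a scheme. -/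
theorem exists_geomPoint (x : A) :
    ∃ (K : Type u) (_ : Field K) (_ : IsAlgClosed K) (p : Spec (CommRingCat.of K) ⟶ A), ∀ q, p q = x := by
  refine ⟨AlgebraicClosure (A.residueField x), inferInstance, inferInstance,
    Spec.map (CommRingCat.ofHom (algebraMap (A.residueField x) (AlgebraicClosure (A.residueField x)))) ≫
      A.fromSpecResidueField x, fun q => ?_⟩
  rw [Scheme.Hom.comp_apply]
  exact Scheme.fromSpecResidueField_apply _ _

end Groth.Agent.GrpField
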