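import Groth.Agent.GrpFieldLib.Comps

/-!
# Locally closed subgroups are closed
-/

set_option autoImplicit false
set_option backward.isDefEq.respectTransparency false
set_option maxHeartbeats 400000

noncomputable section

universe u

open CategoryTheory CategoryTheory.Limits MonoidalCategory CartesianMonoidalCategory AlgebraicGeometry
open scoped MonObj
open Groth.Agent.HomogDense

namespace Groth.Agent.GrpField

variable {k : Type u} [Field k] {G : Over (Spec (CommRingCat.of k))} [GrpObj G]

/-- A locally closed set of points of a group scheme over a field which is stable under products and inverses is closed. -/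
theorem isClosed_of_subgroup (E : Set G.left)
    (hmul : ∀ {Y : Over (Spec (CommRingCat.of k))} (g h : Y ⟶ G) (y : Y.left),
      g.left y ∈ E → h.left y ∈ E → (g * h).left y ∈ E)
    (hinv : ∀ {Y : Over (Spec (CommRingCat.of k))} (g : Y ⟶ G) (y : Y.left), g.left y ∈ E → (g⁻¹).left y ∈ E)
    (hlc : IsLocallyClosed E) : IsClosed E := by
  refine isClosed_of_closure_subset fun y₀ hy₀ => ?_
  have hi : ∀ {Y : Over (Spec (CommRingCat.of k))} (g : Y ⟶ G) (y : Y.left),
      g.left y ∈ closure E → (g⁻¹).left y ∈ closure E := fun {Y} g y hy => by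
    have h1 : (g⁻¹).left y = ((𝟙 G : G ⟶ G)⁻¹).left (g.left y) := by
      rw [← Scheme.Hom.comp_apply, ← Over.comp_left, GrpObj.comp_inv, Category.comp_id]
    rw [h1]
    refine map_mem_closure ((𝟙 G : G ⟶ G)⁻¹).left.continuous hy fun e he => ?_
    exact hinv (𝟙 G) e he
  have hEF : ∀ {Y : Over (Spec (CommRingCat.of k))} (g h : Y ⟶ G) (y : Y.left),
      g.left y ∈ E → h.left y ∈ closure E → (g * h).left y ∈ closure E := fun {Y} g h y hg hh => by
    obtain ⟨T, p, hT, hp⟩ := exists_geomPointAt (X := Y) y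
    obtain ⟨q⟩ := hT.fieldPt.nonempty
    haveI := hT.fieldPt.subsingleton
    haveI := universallyOpen_fst (X := G) T
    let ψ := transl (GrpShear.mulAction G) (p ≫ g)
    have hψ : ψ.hom ≫ fst G T = (snd G T ≫ p ≫ g) * fst G T := lift_fst _ _
    have hmaps : ∀ w ∈ (fst G T).left ⁻¹' E, ψ.hom.left w ∈ (fst G T).left ⁻¹' E := fun w hw => by
      rw [Set.mem_preimage, ← Scheme.Hom.comp_apply, ← Over.comp_left, hψ]
      refine hmul _ _ _ ?_ hw
      rwa [Over.comp_left, Over.comp_left, Scheme.Hom.comp_apply, Scheme.Hom.comp_apply,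
        Subsingleton.elim ((snd G T).left w) q, hp]
    have hpre := (fst G T).left.isOpenMap.preimage_closure_eq_closure_preimage (fst G T).left.continuous E
    have h1 : (lift (p ≫ h) (𝟙 T)).left q ∈ (fst G T).left ⁻¹' closure E := by
      rwa [Set.mem_preimage, ← Scheme.Hom.comp_apply, ← Over.comp_left, lift_fst, Over.comp_left,
        Scheme.Hom.comp_apply, hp]
    have h2 := map_mem_closure ψ.hom.left.continuous (hpre ▸ h1) hmaps
    rw [← hpre, Set.mem_preimage, ← Scheme.Hom.comp_apply, ← Scheme.Hom.comp_apply (lift (p ≫ h) (𝟙 T)).left,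
      ← Over.comp_left, ← Over.comp_left, hψ, MonObj.comp_mul, lift_snd_assoc, lift_fst, Category.id_comp,
      ← MonObj.comp_mul, Over.comp_left, Scheme.Hom.comp_apply, hp] at h2
    exact h2
  have hFE : ∀ {Y : Over (Spec (CommRingCat.of k))} (g h : Y ⟶ G) (y : Y.left),
      g.left y ∈ closure E → h.left y ∈ E → (g * h).left y ∈ closure E := fun {Y} g h y hg hh => by
    have := hi _ y (hEF h⁻¹ g⁻¹ y (hinv h y hh) (hi g y hg))
    rwa [mul_inv_rev, inv_inv, inv_inv] at this
  obtain ⟨T, p, hT, hp⟩ := exists_geomPointAt (X := G) y₀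
  obtain ⟨q⟩ := hT.fieldPt.nonempty
  haveI := hT.fieldPt.subsingleton
  haveI := universallyOpen_fst (X := G) T
  haveI := surjective_fst (X := G) hT.fieldPt
  have hpre := (fst G T).left.isOpenMap.preimage_closure_eq_closure_preimage (fst G T).left.continuous E
  have hmaps : ∀ c : T ⟶ G, c.left q ∈ closure E →
      ∀ w ∈ closure ((fst G T).left ⁻¹' E), (transl (GrpShear.mulAction G) c).hom.left w ∈ closure ((fst G T).left ⁻¹' E) := by
    intro c hc w hw
    rw [← closure_closure (s := (fst G T).left ⁻¹' E)]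
    refine map_mem_closure (transl (GrpShear.mulAction G) c).hom.left.continuous hw fun v hv => ?_
    rw [← hpre, Set.mem_preimage, ← Scheme.Hom.comp_apply, ← Over.comp_left,
      show (transl (GrpShear.mulAction G) c).hom ≫ fst G T = (snd G T ≫ c) * fst G T from lift_fst _ _]
    refine hFE _ _ _ ?_ hv
    rwa [Over.comp_left, Scheme.Hom.comp_apply, Subsingleton.elim ((snd G T).left v) q]
  obtain ⟨O, Z, hO, hZ, rfl⟩ := hlc
  obtain ⟨e₀, he₀⟩ := Set.Nonempty.of_closure ⟨y₀, hy₀⟩
  obtain ⟨e, he⟩ := (fst G T).left.surjective e₀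
  have hpy : p.left q = y₀ := hp q
  let L := Scheme.homeoOfIso ((Over.forget _).mapIso (transl (GrpShear.mulAction G) p))
  have heF : L e ∈ closure ((fst G T).left ⁻¹' (O ∩ Z)) :=
    hmaps p (hpy.symm ▸ hy₀) e (subset_closure (show (fst G T).left e ∈ O ∩ Z from he.symm ▸ he₀))
  obtain ⟨w, hwL, hwE⟩ := mem_closure_iff.1 heF _ (L.isOpenMap _ (hO.preimage (fst G T).left.continuous))
    ⟨e, show (fst G T).left e ∈ O from he.symm ▸ he₀.1, rfl⟩
  obtain ⟨v, hvO, rfl⟩ := hwL
  have hvE : (fst G T).left v ∈ O ∩ Z := by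
    have h := hmaps p⁻¹ (hi p q (hpy.symm ▸ hy₀)) _ (subset_closure hwE)
    have hid : (transl (GrpShear.mulAction G) p⁻¹).hom.left (L v) = v := L.symm_apply_apply v
    rw [hid, ← hpre] at h
    exact ⟨hvO, closure_minimal Set.inter_subset_right hZ h⟩
  have hw' : ((snd G T ≫ p) * fst G T).left v ∈ O ∩ Z := by
    rwa [← show (transl (GrpShear.mulAction G) p).hom ≫ fst G T = (snd G T ≫ p) * fst G T from lift_fst _ _,
      Over.comp_left, Scheme.Hom.comp_apply]
  have := hmul _ _ v hw' (hinv _ v hvE)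
  rwa [mul_assoc, mul_inv_cancel, mul_one, Over.comp_left, Scheme.Hom.comp_apply,
    Subsingleton.elim ((snd G T).left v) q, hpy] at this

/-- The image of a homomorphism is stable under products and inverses. -/
theorem isClosed_range_hom {H : Over (Spec (CommRingCat.of k))} [GrpObj H] (ψ : H ⟶ G) [IsMonHom ψ]
    (hlc : IsLocallyClosed (Set.range ψ.left)) : IsClosed (Set.range ψ.left) := by
  refine isClosed_of_subgroup _ (fun {Y} g h y hg hh => ?_) (fun {Y} g y hg => ?_) hlc
  · obtain ⟨v, hv⟩ := exists_preimage_tensor ψ ψ ((lift g h).left y)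
      (by rwa [← Scheme.Hom.comp_apply, ← Over.comp_left, lift_fst])
      (by rwa [← Scheme.Hom.comp_apply, ← Over.comp_left, lift_snd])
    refine ⟨μ[H].left v, ?_⟩
    rw [← Scheme.Hom.comp_apply, ← Over.comp_left, IsMonHom.mul_hom, Over.comp_left, Scheme.Hom.comp_apply, hv,
      ← Scheme.Hom.comp_apply, ← Over.comp_left, ← Hom.mul_def]
  · obtain ⟨x, hx⟩ := hg
    refine ⟨((𝟙 H : H ⟶ H)⁻¹).left x, ?_⟩
    rw [← Scheme.Hom.comp_apply, ← Over.comp_left, GrpObj.inv_comp, Category.id_comp,
      show (g⁻¹).left y = ((𝟙 G : G ⟶ G)⁻¹).left (g.left y) by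
        rw [← Scheme.Hom.comp_apply, ← Over.comp_left, GrpObj.comp_inv, Category.comp_id],
      ← hx, ← Scheme.Hom.comp_apply, ← Over.comp_left, GrpObj.comp_inv, Category.comp_id]

end Groth.Agent.GrpField
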