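import Groth.Agent.GrpFieldLib.Uniq
import Groth.Agent.FinHomLib.Affine

/-!
# Points of homogeneous spaces over a field lie on a single component
-/

set_option autoImplicit false
set_option backward.isDefEq.respectTransparency false
set_option maxHeartbeats 200000

noncomputable section

universe u

open CategoryTheory CategoryTheory.Limits MonoidalCategory CartesianMonoidalCategory AlgebraicGeometry
open scoped MonObj
open Groth.Agent.HomogDense

namespace Groth.Agent.GrpField

variable {k : Type u} [Field k]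

variable {X : Over (Spec (CommRingCat.of k))}

/-- An object over `k` which is the spectrum of a field. -/
def FieldPt (T : Over (Spec (CommRingCat.of k))) : Prop := ∃ (K : Type u) (_ : Field K), Nonempty (T.left ≅ Spec (CommRingCat.of K))

/-- An object over `k` which is the spectrum of an algebraically closed field. -/
def AlgPt (T : Over (Spec (CommRingCat.of k))) : Prop :=
  ∃ (K : Type u) (_ : Field K) (_ : IsAlgClosed K), Nonempty (T.left ≅ Spec (CommRingCat.of K))

theorem AlgPt.fieldPt {T : Over (Spec (CommRingCat.of k))} (h : AlgPt T) : FieldPt T :=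
  let ⟨K, _, _, h⟩ := h; ⟨K, inferInstance, h⟩

theorem fieldPt_mk {K : Type u} [Field K] (t : Spec (CommRingCat.of K) ⟶ (Spec (CommRingCat.of k))) : FieldPt (Over.mk t) :=
  ⟨K, inferInstance, ⟨Iso.refl _⟩⟩

theorem algPt_mk {K : Type u} [Field K] [IsAlgClosed K] (t : Spec (CommRingCat.of K) ⟶ (Spec (CommRingCat.of k))) : AlgPt (Over.mk t) :=
  ⟨K, inferInstance, inferInstance, ⟨Iso.refl _⟩⟩

theorem FieldPt.subsingleton {T : Over (Spec (CommRingCat.of k))} (h : FieldPt T) : Subsingleton ↥T.left := by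
  obtain ⟨K, _, ⟨e⟩⟩ := h
  haveI : Subsingleton ↥(Spec (CommRingCat.of K)) := inferInstanceAs (Subsingleton (PrimeSpectrum K))
  exact (Scheme.homeoOfIso e).toEquiv.subsingleton

theorem FieldPt.nonempty {T : Over (Spec (CommRingCat.of k))} (h : FieldPt T) : Nonempty ↥T.left := by
  obtain ⟨K, _, ⟨e⟩⟩ := h
  haveI : Nonempty ↥(Spec (CommRingCat.of K)) := inferInstanceAs (Nonempty (PrimeSpectrum K))
  exact ⟨e.inv (Classical.arbitrary _)⟩

theorem FieldPt.flat {T : Over (Spec (CommRingCat.of k))} (h : FieldPt T) {B : Scheme.{u}} (f : B ⟶ T.left) : Flat f := by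
  obtain ⟨K, _, ⟨e⟩⟩ := h
  exact (MorphismProperty.cancel_right_of_respectsIso (P := @Flat) f e.hom).1 (flat_field _)

theorem FieldPt.universallyOpen {T : Over (Spec (CommRingCat.of k))} (h : FieldPt T) {B : Scheme.{u}} (f : B ⟶ T.left) :
    UniversallyOpen f := by
  obtain ⟨K, _, ⟨e⟩⟩ := h
  exact (MorphismProperty.cancel_right_of_respectsIso (P := @UniversallyOpen) f e.hom).1 (universallyOpen_field _)

theorem FieldPt.surjective {T T' : Over (Spec (CommRingCat.of k))} (h : FieldPt T) (h' : FieldPt T') (τ : T' ⟶ T) : Surjective τ.left :=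
  haveI := h.subsingleton; haveI := h'.nonempty; ⟨Function.surjective_to_subsingleton _⟩

theorem AlgPt.gi {T T' : Over (Spec (CommRingCat.of k))} (h : AlgPt T) (h' : FieldPt T') (τ : T' ⟶ T) :
    GeometricallyIrreducible τ.left := by
  obtain ⟨K, _, _, ⟨e⟩⟩ := h
  obtain ⟨K', _, ⟨e'⟩⟩ := h'
  have h2 : GeometricallyIrreducible (e'.inv ≫ τ.left ≫ e.hom) := gi_field (k := K) _
  exact (MorphismProperty.cancel_right_of_respectsIso (P := @GeometricallyIrreducible) τ.left e.hom).1
    ((MorphismProperty.cancel_left_of_respectsIso (P := @GeometricallyIrreducible) e'.inv _).1 h2)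

theorem flat_bcMap {T T' : Over (Spec (CommRingCat.of k))} (h : FieldPt T) (τ : T' ⟶ T) : Flat (X ◁ τ).left :=
  MorphismProperty.of_isPullback (P := @Flat) (FinHom.isPullback_whiskerLeft X τ).flip (h.flat _)

theorem surjective_bcMap {T T' : Over (Spec (CommRingCat.of k))} (h : FieldPt T) (h' : FieldPt T') (τ : T' ⟶ T) : Surjective (X ◁ τ).left :=
  MorphismProperty.of_isPullback (P := @Surjective) (FinHom.isPullback_whiskerLeft X τ).flip (h.surjective h' τ)

theorem gi_bcMap {T T' : Over (Spec (CommRingCat.of k))} (h : AlgPt T) (h' : FieldPt T') (τ : T' ⟶ T) :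
    GeometricallyIrreducible (X ◁ τ).left :=
  MorphismProperty.of_isPullback (P := @GeometricallyIrreducible) (FinHom.isPullback_whiskerLeft X τ).flip (h.gi h' τ)

theorem universallyOpen_bcMap {T T' : Over (Spec (CommRingCat.of k))} (h : FieldPt T) (τ : T' ⟶ T) : UniversallyOpen (X ◁ τ).left :=
  MorphismProperty.of_isPullback (P := @UniversallyOpen) (FinHom.isPullback_whiskerLeft X τ).flip
    (h.universallyOpen τ.left)

theorem flat_fst (T : Over (Spec (CommRingCat.of k))) : Flat (fst X T).left :=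
  MorphismProperty.pullback_fst (P := @Flat) X.hom T.hom (flat_field T.hom)

theorem universallyOpen_fst (T : Over (Spec (CommRingCat.of k))) : UniversallyOpen (fst X T).left :=
  MorphismProperty.pullback_fst (P := @UniversallyOpen) X.hom T.hom (universallyOpen_field _)

theorem surjective_fst {T : Over (Spec (CommRingCat.of k))} (h : FieldPt T) : Surjective (fst X T).left := by
  haveI : Subsingleton ↥(Spec (CommRingCat.of k)) := inferInstanceAs (Subsingleton (PrimeSpectrum k))
  haveI := h.nonempty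
  exact MorphismProperty.pullback_fst (P := @Surjective) X.hom T.hom ⟨Function.surjective_to_subsingleton _⟩

/-- A geometric point over a point. -/
theorem exists_geomPointOver {T : Over (Spec (CommRingCat.of k))} (w : ↥(X ⊗ T).left) :
    ∃ (T' : Over (Spec (CommRingCat.of k))) (τ : T' ⟶ T) (x : T' ⟶ X), AlgPt T' ∧ ∀ q : ↥T'.left, (lift x τ).left q = w := by
  obtain ⟨K', _, _, p, hp⟩ := exists_geomPoint w
  let P : Over.mk (p ≫ (X ⊗ T).hom) ⟶ X ⊗ T := Over.homMk p rfl
  refine ⟨Over.mk (p ≫ (X ⊗ T).hom), P ≫ snd _ _, P ≫ fst _ _, algPt_mk _, fun q => ?_⟩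
  rw [← comp_lift, lift_fst_snd, Category.comp_id]
  exact hp q

theorem exists_geomPointAt (x : X.left) :
    ∃ (T : Over (Spec (CommRingCat.of k))) (p : T ⟶ X), AlgPt T ∧ ∀ q : ↥T.left, p.left q = x := by
  obtain ⟨K, _, _, p, hp⟩ := exists_geomPoint x
  exact ⟨Over.mk (p ≫ X.hom), Over.homMk p rfl, algPt_mk _, hp⟩

theorem bcMap_sec {T T' : Over (Spec (CommRingCat.of k))} (τ : T' ⟶ T) (x : T' ⟶ X) (q : ↥T'.left) :
    (X ◁ τ).left ((lift x (𝟙 T')).left q) = (lift x τ).left q := by
  rw [← Scheme.Hom.comp_apply, ← Over.comp_left, lift_whiskerLeft, Category.id_comp]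

variable {G : Over (Spec (CommRingCat.of k))} [GrpObj G] (a : AlgGrp.Action G X) {T : Over (Spec (CommRingCat.of k))}

/-- Translation of `X ⊗ T` by a point of `G`. -/
def transl (c : T ⟶ G) : X ⊗ T ≅ X ⊗ T where
  hom := lift (lift (snd X T ≫ c) (fst X T) ≫ a.act) (snd X T)
  inv := lift (lift (snd X T ≫ c⁻¹) (fst X T) ≫ a.act) (snd X T)
  hom_inv_id := CartesianMonoidalCategory.hom_ext _ _
    (by simp [comp_lift_assoc, GrpObj.comp_inv, ← GrpShear.lift_mul_act, GrpShear.lift_one_act]) (by simp)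
  inv_hom_id := CartesianMonoidalCategory.hom_ext _ _
    (by simp [comp_lift_assoc, GrpObj.comp_inv, ← GrpShear.lift_mul_act, GrpShear.lift_one_act]) (by simp)

/-- The orbit map of a point. -/
abbrev orb (x : T ⟶ X) : G ⊗ T ⟶ X ⊗ T := lift (lift (fst G T) (snd G T ≫ x) ≫ a.act) (snd G T)

theorem orb_eq (x : T ⟶ X) : orb a x = lift ((G ◁ x) ≫ a.act) (snd G T) := by
  have e : (G ◁ x : G ⊗ T ⟶ G ⊗ X) = lift (fst G T) (snd G T ≫ x) :=
    CartesianMonoidalCategory.hom_ext _ _ (by simp) (by simp)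
  simp only [orb, e]

theorem sec_transl (c : T ⟶ G) (x : T ⟶ X) :
    lift x (𝟙 T) ≫ (transl a c).hom = lift (lift c x ≫ a.act) (𝟙 T) :=
  CartesianMonoidalCategory.hom_ext _ _ (by simp [transl, comp_lift_assoc]) (by simp [transl])

theorem sec_orb (g : T ⟶ G) (x : T ⟶ X) : lift g (𝟙 T) ≫ orb a x = lift (lift g x ≫ a.act) (𝟙 T) :=
  CartesianMonoidalCategory.hom_ext _ _ (by simp [comp_lift_assoc]) (by simp)

theorem orb_bcMap {T' : Over (Spec (CommRingCat.of k))} (τ : T' ⟶ T) (x : T ⟶ X) :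
    (G ◁ τ) ≫ orb a x = orb a (τ ≫ x) ≫ (X ◁ τ) :=
  CartesianMonoidalCategory.hom_ext _ _
    (by simp [comp_lift_assoc]) (by simp)

theorem orb_transl (c : T ⟶ G) (x : T ⟶ X) :
    (transl (GrpShear.mulAction G) c).hom ≫ orb a x = orb a x ≫ (transl a c).hom := by
  refine CartesianMonoidalCategory.hom_ext _ _ ?_ (by simp [transl])
  simp only [transl, orb, Category.assoc, lift_fst, GrpShear.mulAction, ← Hom.mul_def, comp_lift_assoc, lift_snd,
    lift_snd_assoc, GrpShear.lift_mul_act]

theorem uniqAt_transl (c : T ⟶ G) {x : T ⟶ X} {q : T.left} (h : UniqAt ((lift x (𝟙 T)).left q)) :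
    UniqAt ((lift (lift c x ≫ a.act) (𝟙 T)).left q) := by
  rw [← sec_transl, Over.comp_left, Scheme.Hom.comp_apply]
  exact h.homeo (Scheme.homeoOfIso ((Over.forget _).mapIso (transl a c)))

theorem uniqAt_sec (hΦ : Surjective (lift a.act (snd G X)).left) (hT : AlgPt T) (x : T ⟶ X) (q : T.left) :
    UniqAt ((lift x (𝟙 T)).left q) := by
  obtain ⟨ξ, hξ, hξx⟩ := exists_isMax_specializes ((lift x (𝟙 T)).left q)
  obtain ⟨w, hw⟩ := orbit_surjective a hΦ x ξ
  rw [← orb_eq] at hw
  obtain ⟨T', τ, g, hT', hg⟩ := exists_geomPointOver w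
  haveI := flat_bcMap (X := X) hT.fieldPt τ
  haveI := gi_bcMap (X := X) hT hT'.fieldPt τ
  haveI := universallyOpen_bcMap (X := X) hT.fieldPt τ
  obtain ⟨q'⟩ := hT'.fieldPt.nonempty
  let x' : T' ⟶ X := lift g (τ ≫ x) ≫ a.act
  let s' := (lift x' (𝟙 T')).left q'
  have hs' : (X ◁ τ).left s' = ξ := by
    have e : lift x' (𝟙 T') ≫ (X ◁ τ) = lift g τ ≫ orb a x :=
      CartesianMonoidalCategory.hom_ext _ _ (by simp [x', comp_lift_assoc]) (by simp)
    rw [← hw, ← hg q', ← Scheme.Hom.comp_apply, ← Scheme.Hom.comp_apply, ← Over.comp_left, ← Over.comp_left, e]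
  have hu : UniqAt s' := fun θ θ' hθ hθ' hs hs'' => by
    have hF : IsIrreducible ((X ◁ τ).left ⁻¹' {ξ}) :=
      (X ◁ τ).left.isIrreducible_preimage (X ◁ τ).left.isOpenMap isIrreducible_singleton
    refine eq_of_isMax_mem hF hθ hθ' ?_ ?_
    · exact hξ _ (hs' ▸ hs.map (X ◁ τ).left.continuous)
    · exact hξ _ (hs' ▸ hs''.map (X ◁ τ).left.continuous)
  have h2 := (uniqAt_transl a g⁻¹ hu).map (X ◁ τ).left
  rw [← GrpShear.lift_mul_act, inv_mul_cancel, GrpShear.lift_one_act, bcMap_sec,
    show lift (τ ≫ x) τ = τ ≫ lift x (𝟙 T) by simp, Over.comp_left, Scheme.Hom.comp_apply] at h2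
  haveI := hT.fieldPt.subsingleton
  rwa [Subsingleton.elim (τ.left q') q] at h2

/-- Every point of a homogeneous space over a field, after any field extension, lies on one component. -/
theorem uniqAt_tensor (hΦ : Surjective (lift a.act (snd G X)).left) (hT : FieldPt T) (w : ↥(X ⊗ T).left) :
    UniqAt w := by
  obtain ⟨T', τ, x, hT', hx⟩ := exists_geomPointOver w
  haveI := flat_bcMap (X := X) hT τ
  obtain ⟨q'⟩ := hT'.fieldPt.nonempty
  exact hx q' ▸ bcMap_sec τ x q' ▸ (uniqAt_sec a hΦ hT' x q').map (X ◁ τ).left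

theorem uniqAt (hΦ : Surjective (lift a.act (snd G X)).left) (x : X.left) : UniqAt x := by
  obtain ⟨T', P, hT', hp⟩ := exists_geomPointAt (k := k) (X := X) x
  haveI := flat_fst (X := X) T'
  obtain ⟨q⟩ := hT'.fieldPt.nonempty
  have h := (uniqAt_sec a hΦ hT' P q).map (fst X T').left
  rw [← Scheme.Hom.comp_apply, ← Over.comp_left, lift_fst] at h
  exact hp q ▸ h

theorem surjective_mulAction_shear : Surjective (lift (GrpShear.mulAction G).act (snd G G)).left := by
  let s : G ⊗ G ⟶ G ⊗ G := lift (fst G G * (snd G G)⁻¹) (snd G G)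
  have h : s ≫ lift (GrpShear.mulAction G).act (snd G G) = 𝟙 _ :=
    CartesianMonoidalCategory.hom_ext _ _ (by
      have : (GrpShear.mulAction G).act = fst G G * snd G G := by
        rw [Hom.mul_def, lift_fst_snd, Category.id_comp]; rfl
      rw [Category.assoc, lift_fst, this, MonObj.comp_mul]
      simp [s]) (by simp [s])
  refine ⟨fun y => ⟨s.left y, ?_⟩⟩
  rw [← Scheme.Hom.comp_apply, ← Over.comp_left, h]
  rfl

theorem uniqAt_grp_tensor {T : Over (Spec (CommRingCat.of k))} (hT : FieldPt T) (w : ↥(G ⊗ T).left) :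
    UniqAt w := uniqAt_tensor (GrpShear.mulAction G) surjective_mulAction_shear hT w

theorem uniqAt_grp (x : G.left) : UniqAt x := uniqAt (GrpShear.mulAction G) surjective_mulAction_shear x

end Groth.Agent.GrpField
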