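import Groth.Agent.GrpFieldLib.Comps
import Mathlib.FieldTheory.IsAlgClosed.Basic
import Mathlib.Topology.JacobsonSpace

/-!
# Images of profinite sets in group schemes over algebraically closed fields lie in affine opens
-/

set_option autoImplicit false
set_option linter.style.haveILetI false
set_option backward.isDefEq.respectTransparency false

noncomputable section

universe u

open CategoryTheory MonoidalCategory CartesianMonoidalCategory MonObj GrpObj AlgebraicGeometry
open Groth.Agent.HomogDense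

namespace Groth.Agent.GrpField

variable {k : Type u} [Field k]

theorem one_apply_pt {G : Over (Spec (CommRingCat.of k))} [GrpObj G] {T : Over (Spec (CommRingCat.of k))}
    (q : T.left) : (1 : T ⟶ G).left q = unitPt G := by
  rw [← fst_unit_sec (G := G) q, ← Scheme.Hom.comp_apply, ← Over.comp_left, lift_fst]

variable {G : Over (Spec (CommRingCat.of k))} [GrpObj G]

/-- Finitely many affine opens covering a set give one affine open containing all its maximal generalisations. -/
theorem exists_affineOpen_maxPts {E : Set G.left} (hE : IsCompact E) :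
    ∃ U : G.left.Opens, IsAffineOpen U ∧ ∀ x ∈ E, ∀ ξ, IsMaxPt ξ → ξ ⤳ x → ξ ∈ U := by
  haveI := quasiSeparatedSpace_grp (G := G)
  have hcov : ∀ x : G.left, ∃ V : G.left.Opens, IsAffineOpen V ∧ x ∈ V := fun x => by
    obtain ⟨V, hV, hxV, -⟩ := exists_isAffineOpen_mem_and_subset (X := G.left) (x := x) (U := ⊤) trivial
    exact ⟨V, hV, hxV⟩
  choose V hV hxV using hcov
  obtain ⟨t, ht⟩ := hE.elim_finite_subcover (fun x => (V x : Set G.left)) (fun x => (V x).2)
    (fun x _ => Set.mem_iUnion.2 ⟨x, hxV x⟩)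
  obtain ⟨n, e⟩ : ∃ n, Nonempty ({x // x ∈ t} ≃ Fin n) := ⟨_, ⟨Finset.equivFin t⟩⟩
  obtain ⟨e⟩ := e
  let W : Fin n → G.left.Opens := fun i => V (e.symm i).1
  let C : Fin n → Set G.left := fun i => compsMeeting (W i : Set G.left)
  have hC : ∀ i, IsClopen (C i) := fun i =>
    isClopen_compsMeeting (GrpShear.mulAction G) surjective_mulAction_shear _ (hV _).isCompact
  let D : Fin n → Set G.left := fun i => C i \ ⋃ j : {j : Fin n // j < i}, C j.1
  have hD : ∀ i, IsClopen (D i) := fun i => (hC i).diff (isClopen_iUnion_of_finite fun j => hC _)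
  let U : Fin n → G.left.Opens := fun i => ⟨(W i : Set G.left) ∩ D i, (W i).2.inter (hD i).2⟩
  have hU : ∀ i, IsAffineOpen (U i) := fun i => by
    haveI : IsAffine (W i : Scheme.{u}) := hV _
    have hle : U i ≤ W i := Set.inter_subset_left
    haveI : IsClosedImmersion (G.left.homOfLE hle) := by
      refine .of_isPreimmersion _ ?_
      have : Set.range (G.left.homOfLE hle) = (Subtype.val ⁻¹' D i : Set (W i : Scheme.{u})) := by
        ext z
        constructor
        · rintro ⟨w, rfl⟩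
          show (G.left.homOfLE hle w).1 ∈ D i
          rw [Scheme.homOfLE_apply]; exact w.2.2
        · intro hz
          exact ⟨⟨z.1, z.2, hz⟩, Subtype.ext (Scheme.homOfLE_apply _ _)⟩
      rw [this]
      exact (hD i).1.preimage continuous_subtype_val
    exact isAffine_of_isAffineHom (G.left.homOfLE hle)
  refine ⟨iSup U, IsAffineOpen.iSup_of_disjoint hU ?_, fun x hx ξ hξ hξx => ?_⟩
  · intro i j hij
    show Disjoint (U i) (U j)
    rw [← TopologicalSpace.Opens.coe_disjoint]
    refine Set.disjoint_left.2 fun z hzi hzj => ?_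
    rcases lt_or_gt_of_ne hij with h | h
    · exact hzj.2.2 (Set.mem_iUnion.2 ⟨⟨i, h⟩, hzi.2.1⟩)
    · exact hzi.2.2 (Set.mem_iUnion.2 ⟨⟨j, h⟩, hzj.2.1⟩)
  · have hxC : ∀ i, (x ∈ C i) ↔ ξ ∈ (W i : Set G.left) := fun i =>
      ⟨fun h => h ξ hξ hξx, fun h ξ' hξ' hs => uniqAt_grp x ξ ξ' hξ hξ' hξx hs ▸ h⟩
    obtain ⟨y, hy, hxy⟩ := Set.mem_iUnion₂.1 (ht hx)
    have hne : ∃ i, x ∈ C i := ⟨e ⟨y, hy⟩, (hxC _).2 (hξx.mem_open (W _).2 (by
      show x ∈ V (e.symm (e ⟨y, hy⟩)).1
      rw [Equiv.symm_apply_apply]; exact hxy))⟩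
    classical
    obtain ⟨i, hi, hmin⟩ : ∃ i, x ∈ C i ∧ ∀ j, x ∈ C j → i ≤ j := by
      obtain ⟨i, hi⟩ := Finset.exists_min_image (Finset.univ.filter fun i => x ∈ C i) id
        (hne.imp fun i h => by simpa using h)
      exact ⟨i, by simpa using hi.1, fun j hj => hi.2 j (by simpa using hj)⟩
    have hxD : x ∈ D i := ⟨hi, fun h => by
      obtain ⟨⟨j, hj⟩, hjx⟩ := Set.mem_iUnion.1 h
      exact absurd (hmin j hjx) (not_le.2 hj)⟩
    exact TopologicalSpace.Opens.mem_iSup.2 ⟨i, (hxC i).1 hi, hξx.mem_open (hD i).2 hxD⟩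

/-- Translation by a rational point on the right. -/
def rTransl (g : 𝟙_ (Over (Spec (CommRingCat.of k))) ⟶ G) : G ≅ G where
  hom := 𝟙 G * (toUnit G ≫ g)
  inv := 𝟙 G * (toUnit G ≫ g)⁻¹
  hom_inv_id := by
    rw [MonObj.comp_mul, GrpObj.comp_inv, Category.comp_id, ← Category.assoc, toUnit_unique ((𝟙 G * (toUnit G ≫ g)) ≫ toUnit G) (toUnit G),
      mul_inv_cancel_right]
  inv_hom_id := by
    rw [MonObj.comp_mul, Category.comp_id, ← Category.assoc, toUnit_unique ((𝟙 G * (toUnit G ≫ g)⁻¹) ≫ toUnit G) (toUnit G),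
      inv_mul_cancel_right]

/-- Translation by a rational point on the left. -/
def lTransl (g : 𝟙_ (Over (Spec (CommRingCat.of k))) ⟶ G) : G ≅ G where
  hom := (toUnit G ≫ g) * 𝟙 G
  inv := (toUnit G ≫ g)⁻¹ * 𝟙 G
  hom_inv_id := by
    rw [MonObj.comp_mul, GrpObj.comp_inv, Category.comp_id, ← Category.assoc, toUnit_unique (((toUnit G ≫ g) * 𝟙 G) ≫ toUnit G) (toUnit G),
      inv_mul_cancel_left]
  inv_hom_id := by
    rw [MonObj.comp_mul, Category.comp_id, ← Category.assoc, toUnit_unique (((toUnit G ≫ g)⁻¹ * 𝟙 G) ≫ toUnit G) (toUnit G),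
      mul_inv_cancel_left]

theorem lTransl_unit (g : 𝟙_ (Over (Spec (CommRingCat.of k))) ⟶ G)
    (q : (𝟙_ (Over (Spec (CommRingCat.of k)))).left) : (lTransl g).hom.left (unitPt G) = g.left q := by
  haveI : Subsingleton (𝟙_ (Over (Spec (CommRingCat.of k)))).left := inferInstanceAs (Subsingleton (PrimeSpectrum k))
  have h : η[G] ≫ ((toUnit G ≫ g) * 𝟙 G) = g := by
    rw [MonObj.comp_mul, Category.comp_id, ← Category.assoc, toUnit_unique (η[G] ≫ toUnit G) (𝟙 _), Category.id_comp,
      show (η[G] : 𝟙_ (Over (Spec (CommRingCat.of k))) ⟶ G) = 1 by rw [Hom.one_def, toUnit_unique (toUnit _) (𝟙 _), Category.id_comp],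
      _root_.mul_one]
  show ((toUnit G ≫ g) * 𝟙 G).left (unitPt G) = g.left q
  rw [unitPt, ← Scheme.Hom.comp_apply, ← Over.comp_left, h, Subsingleton.elim q]

/-- Every point of an integral algebra over an algebraically closed field is rational. -/
theorem exists_rational_point [IsAlgClosed k] {A : Type u} [CommRing A] [Algebra k A] [Algebra.IsIntegral k A]
    (p : Spec (CommRingCat.of A)) :
    ∃ σ : 𝟙_ (Over (Spec (CommRingCat.of k))) ⟶ Over.mk (Spec.map (CommRingCat.ofHom (algebraMap k A))),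
      ∀ q, σ.left q = p := by
  let P : Ideal A := p.asIdeal
  haveI : P.IsPrime := p.isPrime
  haveI : Algebra.IsIntegral k (A ⧸ P) := Algebra.IsIntegral.of_surjective (Ideal.Quotient.mkₐ k P) Ideal.Quotient.mk_surjective
  let e : k ≃ₐ[k] A ⧸ P := AlgEquiv.ofBijective (Algebra.ofId k (A ⧸ P)) IsAlgClosed.algebraMap_bijective_of_isIntegral
  let φ : A →ₐ[k] k := e.symm.toAlgHom.comp (Ideal.Quotient.mkₐ k P)
  refine ⟨Over.homMk (Spec.map (CommRingCat.ofHom φ.toRingHom)) ?_, fun q => ?_⟩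
  · show Spec.map _ ≫ Spec.map _ = 𝟙 _
    rw [← Spec.map_comp, ← CommRingCat.ofHom_comp, show φ.toRingHom.comp (algebraMap k A) = RingHom.id k from φ.comp_algebraMap]
    exact Spec.map_id _
  · refine PrimeSpectrum.ext ?_
    show Ideal.comap φ.toRingHom (q : PrimeSpectrum k).asIdeal = P
    rw [show (q : PrimeSpectrum k).asIdeal = ⊥ from
      (Ideal.eq_bot_or_top (q : PrimeSpectrum k).asIdeal).resolve_right (q : PrimeSpectrum k).isPrime.ne_top]
    ext a
    simp [φ, Ideal.mem_comap, Ideal.Quotient.eq_zero_iff_mem]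

/-- The image of a morphism from the spectrum of an integral algebra lies in an affine open. -/
theorem exists_affineOpen_image [IsAlgClosed k] [JacobsonSpace G.left]
    (hrat : ∀ g : G.left, IsClosed ({g} : Set G.left) → ∃ x : Spec (CommRingCat.of k) ⟶ G.left,
      x ≫ G.hom = 𝟙 _ ∧ x (IsLocalRing.closedPoint k) = g)
    {A : Type u} [CommRing A] [Algebra k A] [Algebra.IsIntegral k A]
    (f : Over.mk (Spec.map (CommRingCat.ofHom (algebraMap k A))) ⟶ G) :
    ∃ U : G.left.Opens, IsAffineOpen U ∧ Set.range f.left ⊆ (U : Set G.left) := by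
  let T : Over (Spec (CommRingCat.of k)) := Over.mk (Spec.map (CommRingCat.ofHom (algebraMap k A)))
  haveI : IsIntegralHom T.hom := IsIntegralHom.SpecMap_iff.2 (algebraMap_isIntegral_iff.2 inferInstance)
  haveI : CompactSpace T.left := inferInstanceAs (CompactSpace (PrimeSpectrum A))
  obtain ⟨U, hU, hmax⟩ := exists_affineOpen_maxPts (G := G) (isCompact_range f.left.continuous)
  let mu : T ⊗ G ⟶ G := (fst T G ≫ f) * snd T G
  haveI : IsIntegralHom (snd T G).left := MorphismProperty.pullback_snd T.hom G.hom inferInstance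
  let Z : Set (T ⊗ G).left := mu.left ⁻¹' (U : Set G.left)ᶜ
  have hZ : IsClosed ((snd T G).left '' Z) :=
    (snd T G).left.isClosedMap _ (U.2.isClosed_compl.preimage mu.left.continuous)
  obtain ⟨ξ, hξ, hξe, -⟩ := exists_Z0_gen G
  have hξZ : ξ ∉ (snd T G).left '' Z := by
    rintro ⟨z, hzZ, hz⟩
    obtain ⟨σ, hσ⟩ := exists_rational_point (k := k) ((fst T G).left z)
    obtain ⟨q⟩ : Nonempty (𝟙_ (Over (Spec (CommRingCat.of k)))).left := ⟨IsLocalRing.closedPoint k⟩
    obtain ⟨v, hv⟩ := exists_preimage_tensor σ (𝟙 G) z ⟨q, hσ q⟩ ⟨_, rfl⟩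
    let w := (snd (𝟙_ (Over (Spec (CommRingCat.of k)))) G).left v
    have he : σ ⊗ₘ 𝟙 G = snd _ G ≫ lift (toUnit G ≫ σ) (𝟙 G) := by
      refine CartesianMonoidalCategory.hom_ext _ _ ?_ ?_
      · rw [tensorHom_fst, Category.assoc, lift_fst, ← Category.assoc, toUnit_unique (snd _ G ≫ toUnit G) (fst _ G)]
      · rw [tensorHom_snd, Category.assoc, lift_snd]
    have hzw : z = (lift (toUnit G ≫ σ) (𝟙 G)).left w := by
      rw [← hv, he, Over.comp_left, Scheme.Hom.comp_apply]
    have hw : w = ξ := by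
      rw [← hz, hzw, ← Scheme.Hom.comp_apply, ← Over.comp_left, lift_snd]
      rfl
    have hmu : mu.left z = (lTransl (σ ≫ f)).hom.left ξ := by
      rw [hzw, hw, ← Scheme.Hom.comp_apply, ← Over.comp_left]
      refine congrArg (fun m : G ⟶ G => m.left ξ) ?_
      simp only [mu, lTransl, MonObj.comp_mul]
      congr 1
      · exact (lift_fst_assoc _ _ _).trans (Category.assoc _ _ _)
      · exact lift_snd _ _
    refine hzZ ?_
    show mu.left z ∈ U
    rw [hmu]
    refine hmax (f.left ((fst T G).left z)) ⟨_, rfl⟩ _ ?_ ?_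
    · haveI : IsIso (lTransl (σ ≫ f)).hom.left := inferInstanceAs (IsIso ((Over.forget _).map (lTransl (σ ≫ f)).hom))
      exact isMax_map _ hξ
    · have h := hξe.map (lTransl (σ ≫ f)).hom.left.continuous
      rwa [lTransl_unit (σ ≫ f) q, Over.comp_left, Scheme.Hom.comp_apply, hσ] at h
  obtain ⟨g, hg, hgc⟩ := mem_closure_iff.1
    (closure_closedPoints (X := G.left) ▸ Set.mem_univ ξ : ξ ∈ closure (closedPoints G.left)) _ hZ.isOpen_compl hξZ
  obtain ⟨x, hx, hxg⟩ := hrat g hgc
  let gx : 𝟙_ (Over (Spec (CommRingCat.of k))) ⟶ G := Over.homMk x hx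
  haveI : IsIso (rTransl gx).hom.left := inferInstanceAs (IsIso ((Over.forget _).map (rTransl gx).hom))
  refine ⟨(rTransl gx).hom.left ⁻¹ᵁ U, hU.preimage_of_isIso _, ?_⟩
  rintro _ ⟨t, rfl⟩
  show (rTransl gx).hom.left (f.left t) ∈ U
  by_contra hcon
  refine hg ⟨(lift (𝟙 T) (toUnit T ≫ gx)).left t, ?_, ?_⟩
  · show mu.left _ ∉ (U : Set G.left)
    rw [← Scheme.Hom.comp_apply, ← Over.comp_left,
      show lift (𝟙 T) (toUnit T ≫ gx) ≫ mu = f ≫ (rTransl gx).hom by
        simp [mu, rTransl, MonObj.comp_mul, ← Category.assoc, toUnit_unique (f ≫ toUnit G) (toUnit T)],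
      Over.comp_left, Scheme.Hom.comp_apply]
    exact hcon
  · rw [← Scheme.Hom.comp_apply, ← Over.comp_left, lift_snd, Over.comp_left, Scheme.Hom.comp_apply]
    haveI : Subsingleton (𝟙_ (Over (Spec (CommRingCat.of k)))).left := inferInstanceAs (Subsingleton (PrimeSpectrum k))
    exact (congrArg gx.left (Subsingleton.elim _ (IsLocalRing.closedPoint k))).trans hxg

end Groth.Agent.GrpField
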