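import Groth.Agent.GrpFieldLib.Comps

/-!
# Components through rational points under field extensions
-/

set_option autoImplicit false
set_option backward.isDefEq.respectTransparency false
set_option maxHeartbeats 400000

noncomputable section

universe u

open CategoryTheory CategoryTheory.Limits MonoidalCategory CartesianMonoidalCategory AlgebraicGeometry
open scoped MonObj
open Groth.Agent.HomogDense

namespace Groth.Agent.GrpField

variable {k : Type u} [Field k] {G X : Over (Spec (CommRingCat.of k))} [GrpObj G] (a : AlgGrp.Action G X)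

theorem fieldPt_one : FieldPt (𝟙_ (Over (Spec (CommRingCat.of k)))) := ⟨k, inferInstance, ⟨Iso.refl _⟩⟩

theorem preimage_closure_eq (hΦ : Surjective (lift a.act (snd G X)).left)
    {T : Over (Spec (CommRingCat.of k))} (hT : AlgPt T) (x : 𝟙_ (Over (Spec (CommRingCat.of k))) ⟶ X)
    (pt : ↥(𝟙_ (Over (Spec (CommRingCat.of k)))).left) {ξ : X.left} (hξ : IsMaxPt ξ) (hs : ξ ⤳ x.left pt) :
    IsIrreducible ((fst X T).left ⁻¹' closure {ξ}) := by
  obtain ⟨q⟩ := hT.fieldPt.nonempty
  haveI := (fieldPt_one (k := k)).subsingleton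
  obtain ⟨θ, hθ, hθ'⟩ := exists_top (G := G) hT.fieldPt
  have hθe : θ ⤳ (lift (1 : T ⟶ G) (𝟙 T)).left q := (hθ' _).1 (fst_unit_sec (G := G) q ▸ unitPt_mem_Z0 G)
  obtain ⟨hζ, hζs⟩ := isMax_orb a hΦ hT (toUnit T ≫ x) q hθ hθe
  set ζ := (orb a (toUnit T ≫ x)).left θ with hζdef
  haveI := flat_fst (X := X) T
  have hζξ : (fst X T).left ζ = ξ := by
    have h := hζs.map (fst X T).left.continuous
    have e : (fst X T).left ((lift (toUnit T ≫ x) (𝟙 T)).left q) = x.left pt := by
      rw [← Scheme.Hom.comp_apply, ← Over.comp_left, lift_fst, Over.comp_left, Scheme.Hom.comp_apply,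
        Subsingleton.elim ((toUnit T).left q) pt]
    rw [e] at h
    exact uniqAt a hΦ _ _ _ (isMax_map _ hζ) hξ h hs
  suffices heq : (fst X T).left ⁻¹' closure {ξ} = closure {ζ} by
    rw [heq]; exact isIrreducible_singleton.closure
  refine Set.Subset.antisymm (fun w hw => ?_) (closure_minimal
    (Set.singleton_subset_iff.2 (show (fst X T).left ζ ∈ closure {ξ} from hζξ ▸ subset_closure rfl))
    (isClosed_closure.preimage (fst X T).left.continuous))
  obtain ⟨v, hv, hvw⟩ := exists_isMax_specializes w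
  have hvξ : (fst X T).left v = ξ :=
    uniqAt a hΦ _ _ _ (isMax_map _ hv) hξ (hvw.map (fst X T).left.continuous) (specializes_iff_mem_closure.2 hw)
  have hfst : ∀ (Y : Over (Spec (CommRingCat.of k))) (z : ↥(Y ⊗ T).left),
      (fst Y (𝟙_ _)).left ((Y ◁ toUnit T).left z) = (fst Y T).left z := fun Y z => by
    rw [← Scheme.Hom.comp_apply, ← Over.comp_left, whiskerLeft_fst]
  have hinj : Function.Injective (fst X (𝟙_ (Over (Spec (CommRingCat.of k))))).left := fun y y' h =>
    (Scheme.homeoOfIso ((Over.forget _).mapIso (ρ_ X))).injective (by simpa using h)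
  have hcomm : (orb a x).left ((G ◁ toUnit T).left θ) = (X ◁ toUnit T).left ζ := by
    rw [hζdef, ← Scheme.Hom.comp_apply, ← Scheme.Hom.comp_apply, ← Over.comp_left, ← Over.comp_left, orb_bcMap]
  have hv' : (X ◁ toUnit T).left v = (X ◁ toUnit T).left ζ := hinj ((hfst X v).trans ((hvξ.trans hζξ.symm).trans (hfst X ζ).symm))
  obtain ⟨p, hp₁, hp₂⟩ := Scheme.exists_preimage_of_isPullback (isPullback_orb a (toUnit T) x) v
    ((G ◁ toUnit T).left θ) (hv'.trans hcomm.symm)
  have hp : θ ⤳ p := (hθ' p).1 (by rw [← hfst, hp₂, hfst]; exact (hθ' θ).2 specializes_rfl)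
  have := hp.map (orb a (toUnit T ≫ x)).left.continuous
  rw [hp₁] at this
  exact (this.trans hvw).mem_closure

theorem isIrreducible_preimage_component (hΦ : Surjective (lift a.act (snd G X)).left)
    {T : Over (Spec (CommRingCat.of k))} (hT : FieldPt T) (x : 𝟙_ (Over (Spec (CommRingCat.of k))) ⟶ X)
    (pt : ↥(𝟙_ (Over (Spec (CommRingCat.of k)))).left) {C : Set X.left} (hC : C ∈ irreducibleComponents X.left)
    (hx : x.left pt ∈ C) : IsIrreducible ((fst X T).left ⁻¹' C) := by
  obtain ⟨ξ, hξ, hs⟩ := exists_isMax_specializes (x.left pt)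
  have hCeq : C = closure {ξ} := (uniqueMax_iff.1 (uniqAt a hΦ (x.left pt))).unique ⟨hC, hx⟩
    ⟨closure_mem_irreducibleComponents hξ, hs.mem_closure⟩
  obtain ⟨q⟩ := hT.nonempty
  obtain ⟨T', p, hT', -⟩ := exists_geomPointAt (X := T) q
  have hsur := (surjective_bcMap (X := X) hT hT'.fieldPt p).surj
  have h := (preimage_closure_eq a hΦ hT' x pt hξ hs).image (X ◁ p).left (X ◁ p).left.continuous.continuousOn
  rwa [← whiskerLeft_fst X p, Over.comp_left, Scheme.Hom.comp_base, TopCat.coe_comp, Set.preimage_comp,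
    hsur.image_preimage, ← hCeq] at h

end Groth.Agent.GrpField
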